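import Mathlib
import Groth.Agent.Lib.Helper3.RegGlDim

/-!
# Localizations of regular rings; global dimension of localizations of polynomial rings over a field
(helper5)
-/

set_option autoImplicit false
universe u
open CategoryTheory

namespace Groth.Agent.Lib.Helper5.FibReg

section RegLoc

variable {T₀ T : Type u} [CommRing T₀] [CommRing T] [Algebra T₀ T]

/-- a localization of a regular ring is regular -/
theorem isRegularRing_of_isLocalization (M : Submonoid T₀) [IsLocalization M T]
    [IsRegularRing T₀] : IsRegularRing T := by
  haveI : IsNoetherianRing T := IsLocalization.isNoetherianRing M T inferInstance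
  rw [isRegularRing_iff]
  intro 𝔱 h𝔱
  haveI : IsLocalization.AtPrime (Localization.AtPrime 𝔱) (𝔱.comap (algebraMap T₀ T)) :=
    IsLocalization.isLocalization_isLocalization_atPrime_isLocalization M
      (Localization.AtPrime 𝔱) 𝔱
  exact IsRegularLocalRing.of_ringEquiv
    (IsLocalization.algEquiv (𝔱.comap (algebraMap T₀ T)).primeCompl
      (Localization.AtPrime (𝔱.comap (algebraMap T₀ T))) (Localization.AtPrime 𝔱)).toRingEquiv

/-- the dimension of a localization is at most the dimension of the ring -/
theorem ringKrullDim_le_of_isLocalization (M : Submonoid T₀) [IsLocalization M T] :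
    ringKrullDim T ≤ ringKrullDim T₀ := by
  rw [ringKrullDim_le_iff_height_le]
  intro 𝔱 h𝔱
  haveI := h𝔱
  rw [← IsLocalization.height_under M 𝔱]
  exact Ideal.height_le_ringKrullDim_of_isPrime

end RegLoc

section Poly

/-- all modules over a nontrivial localization of a ring isomorphic to a polynomial ring in `d`
variables over a field have projective dimension `≤ d` -/
theorem pdLT_of_localization_mvPolynomial (k : Type u) [Field k] (d : ℕ)
    {T₀ T : Type u} [CommRing T₀] [CommRing T] [Algebra T₀ T]
    (e : T₀ ≃+* MvPolynomial (Fin d) k) (M : Submonoid T₀) [IsLocalization M T] [Nontrivial T]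
    (N : Type u) [AddCommGroup N] [Module T N] :
    HasProjectiveDimensionLT (ModuleCat.of T N) (d + 1) := by
  haveI : IsRegularRing T₀ := IsRegularRing.of_ringEquiv e.symm
  haveI : IsRegularRing T := isRegularRing_of_isLocalization M
  have h1 : ringKrullDim T ≤ (d : WithBot ℕ∞) := by
    refine (ringKrullDim_le_of_isLocalization M).trans ?_
    rw [ringKrullDim_eq_of_ringEquiv e, MvPolynomial.ringKrullDim_of_isNoetherianRing,
      ringKrullDim_eq_zero_of_field]
    simp
  have h0 : (0 : WithBot ℕ∞) ≤ ringKrullDim T := ringKrullDim_nonneg_of_nontrivial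
  obtain ⟨d', hd'⟩ : ∃ d' : ℕ, ringKrullDim T = d' := by
    cases h : ringKrullDim T with
    | bot => rw [h] at h0; simp at h0
    | coe x =>
      cases hx : x with
      | top =>
        rw [h, hx] at h1
        have h2 : ((⊤ : ℕ∞) : WithBot ℕ∞) ≤ ((d : ℕ∞) : WithBot ℕ∞) := h1
        rw [WithBot.coe_le_coe] at h2
        exact absurd h2 (by simp)
      | coe n => exact ⟨n, rfl⟩
  have hle : d' ≤ d := by
    rw [hd'] at h1
    exact_mod_cast h1
  have := Groth.Agent.Helper3.RegGlDim.pdLT_of_regular
    (fun p => IsRegularRing.isRegularLocalRing_localization p.asIdeal) d' hd' (ModuleCat.of T N)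
  exact hasProjectiveDimensionLT_of_ge (ModuleCat.of T N) (d' + 1) (d + 1) (by omega)

end Poly

end Groth.Agent.Lib.Helper5.FibReg
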