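import Mathlib
import Groth.Prelude.Def_DDual2
import Groth.Agent.Lib.Helper5.KProj.LTen
import Groth.Agent.Lib.Helper5.KProj.LBC
import Groth.Agent.Lib.Helper5.TBC.TorAcyc

/-!
# From the derived tensor product with an algebra to the derived base change (helper5)

If `H^i(X ⊗^L_A κ) = 0` then `H^i` of the derived base change of `X` to `κ` vanishes.
-/

set_option autoImplicit false
universe u
open CategoryTheory Limits DerivedCategory MonoidalCategory
attribute [local instance] HasDerivedCategory.standard

namespace Groth.Agent.Lib.Helper5.FibReg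
open Groth.Agent.Lib.Helper5.KProj Groth.Agent.Helper5.FlatAcyc Groth.Agent.Lib.Helper5.TBC

variable (A κ : Type u) [CommRing A] [CommRing κ] [Algebra A κ]

/-- `κ` as an `A`-module is the restriction of scalars of `κ` -/
noncomputable def ofLinSR :
    κ ≃ₗ[A] ↑((ModuleCat.restrictScalars (algebraMap A κ)).obj (ModuleCat.of κ κ)) where
  toFun := fun x => x
  invFun := fun x => x
  left_inv := fun _ => rfl
  right_inv := fun _ => rfl
  map_add' := fun _ _ => rfl
  map_smul' := fun r x => by
    show r • x = algebraMap A κ r * x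
    exact Algebra.smul_def r x

noncomputable def ofIsoSR : ModuleCat.of A κ ≅ SR (algebraMap A κ) :=
  (ofLinSR A κ).toModuleIso

/-- `(κ ⊗_A -)|_A ≅ - ⊗_A κ` -/
noncomputable def extResOf :
    ModuleCat.extendScalars (algebraMap A κ) ⋙ ModuleCat.restrictScalars (algebraMap A κ) ≅
      tensorRight (ModuleCat.of A κ) :=
  extResIso' (algebraMap A κ) ≪≫ (tensoringRight (ModuleCat.{u} A)).mapIso (ofIsoSR A κ).symm

theorem subsingleton_HD_lbc_of_ltensor [DRing.HasLBaseChange (algebraMap A κ)]
    [DRing.HasLTensor A (ModuleCat.of A κ)] (X : Dual.D A) (i : ℤ)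
    (h : Subsingleton (Dual.HD A ((DRing.LTensor A (ModuleCat.of A κ)).obj X) i)) :
    Subsingleton (Dual.HD κ ((DRing.LBaseChange (algebraMap A κ)).obj X) i) := by
  obtain ⟨P, hP, ⟨e⟩⟩ := exists_kproj_rep X
  haveI := hP
  have h1 : Subsingleton (Dual.HD A (DRing.toD ((TM (ModuleCat.of A κ)).obj P)) i) :=
    subsingleton_HD_of_iso ((DRing.LTensor A (ModuleCat.of A κ)).mapIso e.symm ≪≫
      ltIso (ModuleCat.of A κ) P) i h
  have h2 : ((TM (ModuleCat.of A κ)).obj P).ExactAt i := (exactAt_iff_subsingleton_HD _ i).2 h1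
  let W := ((ModuleCat.extendScalars (algebraMap A κ) ⋙
    ModuleCat.restrictScalars (algebraMap A κ)).mapHomologicalComplex (ComplexShape.up ℤ)).obj P
  have eW : W ≅ (TM (ModuleCat.of A κ)).obj P :=
    (NatIso.mapHomologicalComplex (extResOf A κ) (ComplexShape.up ℤ)).app P
  have h3 : W.ExactAt i := by
    rw [HomologicalComplex.exactAt_iff_isZero_homology] at h2 ⊢
    exact h2.of_iso ((HomologicalComplex.homologyFunctor _ _ i).mapIso eW)
  have h4 : ((bcCx (algebraMap A κ)).obj P).ExactAt i := by
    have h5 : ((((bcCx (algebraMap A κ)).obj P).sc i).map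
        (ModuleCat.restrictScalars (algebraMap A κ))).Exact := h3
    exact (ShortComplex.exact_map_iff_of_faithful _
      (ModuleCat.restrictScalars (algebraMap A κ))).1 h5
  have h6 : Subsingleton (Dual.HD κ (DRing.toD ((bcCx (algebraMap A κ)).obj P)) i) :=
    (exactAt_iff_subsingleton_HD _ i).1 h4
  exact subsingleton_HD_of_iso ((lbcIso (algebraMap A κ) P).symm ≪≫
    (DRing.LBaseChange (algebraMap A κ)).mapIso e) i h6

end Groth.Agent.Lib.Helper5.FibReg
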