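import Mathlib
import Groth.Agent.Lib.Helper5.FibReg.RegLoc

/-!
# Global dimension of the fibre rings of localizations of polynomial rings (helper5)
-/

set_option autoImplicit false
universe u
open CategoryTheory TensorProduct

namespace Groth.Agent.Lib.Helper5.FibReg

/-- transport along a ring isomorphism of the target -/
theorem pdLT_of_localization_mvPolynomial' (k : Type u) [Field k] (d : ℕ)
    {T₀ T T'' : Type u} [CommRing T₀] [CommRing T] [CommRing T''] [Algebra T₀ T]
    (e : T₀ ≃+* MvPolynomial (Fin d) k) (M : Submonoid T₀) [IsLocalization M T]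
    (e' : T ≃+* T'') [Nontrivial T'']
    (N : Type u) [AddCommGroup N] [Module T'' N] :
    HasProjectiveDimensionLT (ModuleCat.of T'' N) (d + 1) := by
  letI : Algebra T₀ T'' := (e'.toRingHom.comp (algebraMap T₀ T)).toAlgebra
  haveI : IsLocalization M T'' :=
    IsLocalization.isLocalization_of_algEquiv M
      ({ e' with commutes' := fun _ => rfl } : T ≃ₐ[T₀] T'')
  exact pdLT_of_localization_mvPolynomial k d e M N

section

/-- `κ ⊗_{R_p} B` has global dimension `≤ d` when `B` is a localization of `R[x_1, …, x_d]` and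
`κ` is a field over a localization `R_p` of `R` -/
theorem pdLT_fibre (R : Type u) [CommRing R] (d : ℕ) (S : Submonoid R) (Rp : Type u) [CommRing Rp]
    [Algebra R Rp] [IsLocalization S Rp] (κ : Type u) [Field κ] [Algebra Rp κ] [Algebra R κ]
    [IsScalarTower R Rp κ] (M₀ : Submonoid (MvPolynomial (Fin d) R)) (B : Type u) [CommRing B]
    [Algebra (MvPolynomial (Fin d) R) B] [IsLocalization M₀ B] [Algebra R B]
    [IsScalarTower R (MvPolynomial (Fin d) R) B] [Algebra Rp B] [IsScalarTower R Rp B]
    [Nontrivial (κ ⊗[Rp] B)]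
    (N : Type u) [AddCommGroup N] [Module (κ ⊗[Rp] B) N] :
    HasProjectiveDimensionLT (ModuleCat.of (κ ⊗[Rp] B) N) (d + 1) := by
  let P := MvPolynomial (Fin d) R
  let f : κ ⊗[R] P →ₐ[κ] κ ⊗[R] B :=
    Algebra.TensorProduct.map (AlgHom.id κ κ) (IsScalarTower.toAlgHom R P B)
  letI : Algebra (κ ⊗[R] P) (κ ⊗[R] B) := f.toRingHom.toAlgebra
  have hst : algebraMap κ (κ ⊗[R] B) =
      (algebraMap (κ ⊗[R] P) (κ ⊗[R] B)).comp (algebraMap κ (κ ⊗[R] P)) := by
    refine RingHom.ext fun x => ?_
    show algebraMap κ (κ ⊗[R] B) x = f (algebraMap κ (κ ⊗[R] P) x)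
    rw [f.commutes]
  haveI : IsScalarTower κ (κ ⊗[R] P) (κ ⊗[R] B) := IsScalarTower.of_algebraMap_eq' hst
  have H : (algebraMap (κ ⊗[R] P) (κ ⊗[R] B)).comp
      (Algebra.TensorProduct.includeRight (R := R) (A := κ) (B := P)).toRingHom =
      (Algebra.TensorProduct.includeRight (R := R) (A := κ) (B := B)).toRingHom.comp
        (algebraMap P B) := by
    refine RingHom.ext fun x => ?_
    show f ((1 : κ) ⊗ₜ[R] x) = (1 : κ) ⊗ₜ[R] (algebraMap P B x)
    simp [f]
  haveI := IsLocalization.tensorProduct_tensorProduct_right R κ M₀ B H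
  exact pdLT_of_localization_mvPolynomial' κ d
    (MvPolynomial.algebraTensorAlgEquiv R κ).toRingEquiv
    (M₀.map (Algebra.TensorProduct.includeRight (R := R) (A := κ)))
    (IsLocalization.algebraTensorEquiv S Rp κ B).symm.toRingEquiv N

end

end Groth.Agent.Lib.Helper5.FibReg
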