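import Mathlib
import Groth.Prelude.Def_DRing2
import Groth.Prelude.Def_DDual2
import Groth.Agent.Lib.Helper3.FibTor1
import Groth.Agent.Lib.Helper5.FibReg.Bridge
import Groth.Agent.Lib.Helper5.FibReg.GlFib
import Groth.Agent.Lib.Helper5.FibStalk.RingBC
import Groth.Agent.Lib.Helper5.FibStalk.ProdBdd
import Groth.Agent.Lib.Helper5.RelPC.FlatLfp
import Groth.Agent.Lib.Helper5.DRing.RelPerfBC

/-!
# Abstract forms of the fibre criterion for tor amplitude (helper5)
-/

set_option autoImplicit false
universe u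
open CategoryTheory CategoryTheory.Limits TensorProduct

attribute [local instance] HasDerivedCategory.standard

namespace Groth.Agent.Lib.Helper5.FibReg

open DerivedCategory _root_.Helper5.Shriek Groth.Agent.Lib.Helper5.DTenLib Groth.Agent.Lib.Helper5.TBC
  Groth.Agent.Helper1.TorL Groth.Agent.Lib.Helper5.KProj Groth.Agent.Helper5.TorAmp
  Groth.Agent.Helper5.PCHom Groth.Agent.Helper5.PCBuild

theorem pc'_of_iso {A : Type u} [CommRing A] {K L : Dual.D A} (e : K ≅ L)
    (h : DRing.IsPseudoCoherent' A K) : DRing.IsPseudoCoherent' A L := by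
  obtain ⟨E, b, h1, h2, ⟨e'⟩⟩ := h
  exact ⟨E, b, h1, h2, ⟨e' ≪≫ e⟩⟩

/-- pseudo-coherence of the restriction of a derived base change along a flat pushout square
whose other leg is a pseudo-coherent ring map -/
theorem pc'_of_pushout (P A B A' : Type u) [CommRing P] [CommRing A] [CommRing B] [CommRing A']
    [Algebra P A] [Algebra P B] [Algebra A A'] [Algebra B A'] [Algebra P A']
    [IsScalarTower P A A'] [IsScalarTower P B A'] [Algebra.IsPushout P A B A'] [Module.Flat P B]
    (hPC : PCHom (algebraMap P A)) (K : Dual.D A) (hK : DRing.IsPseudoCoherent' A K) :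
    DRing.IsPseudoCoherent' B ((DRing.restrictD (algebraMap B A')).obj
      ((DRing.LBaseChange (algebraMap A A')).obj K)) := by
  have hsq : (algebraMap A A').comp (algebraMap P A) =
      (algebraMap B A').comp (algebraMap P B) := by
    rw [← IsScalarTower.algebraMap_eq, ← IsScalarTower.algebraMap_eq]
  have hc := isCocart_of_isPushout P A B A' hsq
  have hta : TorIndep (algebraMap P A) (algebraMap P B) := by
    haveI : Module.Flat P (SR (algebraMap P B)) := Module.Flat.of_linearEquiv (ofLinSR P B).symm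
    intro n
    exact isZero_tor_succ_of_flat_right (SR (algebraMap P B)) n
      ((ModuleCat.restrictScalars.{u} (algebraMap P A)).obj (ModuleCat.of A A))
  have hcmp : IsIso (TrivBC.cmp (myAdj (algebraMap P B)) (myAdj (algebraMap A A')) hsq K) :=
    isIso_cmp_myAdj hsq hc hta K
  let c := @asIso _ _ _ _
    (TrivBC.cmp (myAdj (algebraMap P B)) (myAdj (algebraMap A A')) hsq K) hcmp
  have h1 : DRing.IsPseudoCoherent' P ((DRing.restrictD (algebraMap P A)).obj K) :=
    pc'_of_forall_pc _ (fun m => (pc_restrict_iff (algebraMap P A) hPC K m).1 (pc_of_pc' hK m))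
  have h2 := Groth.Agent.Lib.Helper5.RelPerfBC.isPseudoCoherent'_LBaseChange (algebraMap P B) _ h1
  exact pc'_of_iso c h2

/-- tor amplitude from the fibre over the closed point, with a bound on the global dimension
of the fibre ring -/
theorem torAmp_of_fibre_gl (Rp B : Type u) [CommRing Rp] [IsLocalRing Rp] [CommRing B]
    [IsLocalRing B] [Algebra Rp B] [IsLocalHom (algebraMap Rp B)] [Module.Flat Rp B] (d : ℕ)
    (hgl : ∀ (M : Type u) [AddCommGroup M]
      [Module ((IsLocalRing.ResidueField Rp) ⊗[Rp] B) M],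
      HasProjectiveDimensionLT (ModuleCat.of ((IsLocalRing.ResidueField Rp) ⊗[Rp] B) M) (d + 1))
    (a b : ℤ) (L : Dual.D B) (hL : DRing.IsPseudoCoherent' B L)
    (h : ∀ i : ℤ, (i < a ∨ b < i) → Subsingleton (Dual.HD (IsLocalRing.ResidueField Rp)
      ((DRing.LBaseChange (algebraMap Rp (IsLocalRing.ResidueField Rp))).obj
        ((DRing.restrictD (algebraMap Rp B)).obj L)) i)) :
    DRing.IsPerfect B L ∧ DRing.HasTorAmplitudeIn B (a - d) b L := by
  refine Groth.Agent.Helper3.LocFib.main_S6974 B L hL (a - d) b ?_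
  intro m hm i hi
  have hmB : m = IsLocalRing.maximalIdeal B := IsLocalRing.eq_maximalIdeal hm
  let mA := IsLocalRing.maximalIdeal Rp
  let g₁ : (Rp ⧸ mA) →ₐ[Rp] B ⧸ m := Ideal.Quotient.liftₐ mA (Algebra.ofId Rp (B ⧸ m)) (by
    intro x hx
    show algebraMap Rp (B ⧸ m) x = 0
    rw [IsScalarTower.algebraMap_apply Rp B (B ⧸ m), Ideal.Quotient.algebraMap_eq,
      Ideal.Quotient.eq_zero_iff_mem, hmB, IsLocalRing.mem_maximalIdeal]
    intro hu
    exact (IsLocalRing.mem_maximalIdeal x).1 hx (isUnit_of_map_unit (algebraMap Rp B) x hu))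
  exact Groth.Agent.Helper3.FibTor.subsingleton_fibre Rp B (IsLocalRing.ResidueField Rp) d hgl a b L h
    m g₁ i hi

end Groth.Agent.Lib.Helper5.FibReg
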