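import Mathlib
import Groth.Agent.Lib.Helper5.FibReg.Core

/-!
# The fibre criterion for tor amplitude over the base of a localized flat finitely presented
algebra (helper5, S7104)
-/

set_option autoImplicit false
universe u
open CategoryTheory CategoryTheory.Limits TensorProduct

attribute [local instance] HasDerivedCategory.standard

namespace Groth.Agent.Lib.Helper5.FibReg

open DerivedCategory _root_.Helper5.Shriek Groth.Agent.Lib.Helper5.DTenLib Groth.Agent.Lib.Helper5.TBC
  Groth.Agent.Helper1.TorL Groth.Agent.Lib.Helper5.KProj Groth.Agent.Helper5.TorAmp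
  Groth.Agent.Helper5.PCHom Groth.Agent.Helper5.PCBuild

/-- tor amplitude is preserved by restriction along a flat ring map (derived form) -/
theorem hasTorAmplitudeIn_restrictD_of_flat {B B' : Type u} [CommRing B] [CommRing B']
    (ε : B' →+* B) (hε : ε.Flat) (L : Dual.D B) (a b : ℤ)
    (h : DRing.HasTorAmplitudeIn B a b L) :
    DRing.HasTorAmplitudeIn B' a b ((DRing.restrictD ε).obj L) := by
  let K' := Q.objPreimage L
  let e : DRing.toD K' ≅ L := Q.objObjPreimageIso L
  have h' := hasTorAmplitudeIn_of_iso e.symm h
  have r := Groth.Agent.Lib.Helper5.FibStalk.hasTorAmplitudeIn_restrict_of_flat ε hε K' a b h'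
  exact hasTorAmplitudeIn_of_iso
    (((DTen.resFactors ε).app K').symm ≪≫ (DRing.restrictD ε).mapIso e) r

section

variable (R A : Type u) [CommRing R] [CommRing A] [Algebra R A]
  [Module.Flat R A] [Algebra.FinitePresentation R A] (d : ℕ)
  (ψ : MvPolynomial (Fin d) R →ₐ[R] A) (hψ : Function.Surjective ψ)
  (q : Ideal A) [q.IsPrime] (p : Ideal R) [p.IsPrime] (hpq : p = Ideal.comap (algebraMap R A) q)

include hψ in
/-- fibre criterion, with the fibre expressed through the derived base change to the residue
field -/
theorem torAmp_local (K : Dual.D A) (hK : DRing.IsPseudoCoherent' A K) (a b : ℤ)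
    (hfib : ∀ i : ℤ, i < a ∨ b < i → Subsingleton (Dual.HD p.ResidueField
      ((DRing.LBaseChange (algebraMap (Localization.AtPrime p) p.ResidueField)).obj
        ((DRing.restrictD (Localization.localRingHom p q (algebraMap R A) hpq)).obj
          ((DRing.LBaseChange (algebraMap A (Localization.AtPrime q))).obj K))) i)) :
    DRing.HasTorAmplitudeIn R (a - d) b
      ((DRing.restrictD (algebraMap R (Localization.AtPrime q))).obj
        ((DRing.LBaseChange (algebraMap A (Localization.AtPrime q))).obj K)) := by
  let P := MvPolynomial (Fin d) R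
  let Q : Ideal P := q.comap ψ.toRingHom
  haveI : Q.IsPrime := Ideal.comap_isPrime _ _
  have hpQ : p = Q.comap (algebraMap R P) := by
    rw [hpq]
    ext x
    simp only [Q, Ideal.mem_comap]
    show algebraMap R A x ∈ q ↔ ψ (algebraMap R P x) ∈ q
    rw [ψ.commutes]
  let B := Localization.AtPrime Q
  let Rp := Localization.AtPrime p
  let Aq := Localization.AtPrime q
  let β : B →+* Aq := Localization.localRingHom Q q ψ.toRingHom rfl
  let γ : Rp →+* B := Localization.localRingHom p Q (algebraMap R P) hpQ
  let δ : Rp →+* Aq := Localization.localRingHom p q (algebraMap R A) hpq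
  have hβγ : β.comp γ = δ := by
    refine IsLocalization.ringHom_ext p.primeCompl (RingHom.ext fun x => ?_)
    show β (γ (algebraMap R Rp x)) = δ (algebraMap R Rp x)
    rw [Localization.localRingHom_to_map, Localization.localRingHom_to_map,
      Localization.localRingHom_to_map]
    show algebraMap A Aq (ψ (algebraMap R P x)) = _
    rw [ψ.commutes]
  -- algebra structures
  letI algPA : Algebra P A := ψ.toRingHom.toAlgebra
  letI algBAq : Algebra B Aq := β.toAlgebra
  letI algRpB : Algebra Rp B := γ.toAlgebra
  haveI : IsScalarTower P A Aq := inferInstance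
  have hβP : (algebraMap A Aq).comp ψ.toRingHom = β.comp (algebraMap P B) := by
    refine RingHom.ext fun x => ?_
    show algebraMap A Aq (ψ.toRingHom x) = β (algebraMap P B x)
    rw [Localization.localRingHom_to_map]
  haveI : IsScalarTower P B Aq := IsScalarTower.of_algebraMap_eq' (by
    rw [IsScalarTower.algebraMap_eq P A Aq]
    exact hβP)
  have hsub : Algebra.algebraMapSubmonoid A Q.primeCompl = q.primeCompl := by
    ext x
    constructor
    · rintro ⟨y, hy, rfl⟩
      exact hy
    · intro hx
      obtain ⟨y, rfl⟩ := hψ x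
      exact ⟨y, hx, rfl⟩
  haveI : IsLocalization (Algebra.algebraMapSubmonoid A Q.primeCompl) Aq := by
    rw [hsub]
    infer_instance
  haveI : Algebra.IsPushout P A B Aq := Algebra.isPushout_of_isLocalization Q.primeCompl B A Aq
  haveI : Module.Flat P B := IsLocalization.flat B Q.primeCompl
  have hPC : PCHom (algebraMap P A) := Groth.Agent.Lib.Helper5.FlatLfp.pchom_of_flat_fp ψ hψ
  have hL := pc'_of_pushout P A B Aq hPC K hK
  -- the local flat map `R_p → B`
  haveI hloc : IsLocalHom (algebraMap Rp B) :=
    Localization.isLocalHom_localRingHom p Q (algebraMap R P) hpQ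
  have hRB : algebraMap R B = γ.comp (algebraMap R Rp) := by
    refine RingHom.ext fun x => ?_
    show algebraMap R B x = γ (algebraMap R Rp x)
    rw [Localization.localRingHom_to_map, IsScalarTower.algebraMap_apply R P B]
  haveI : IsScalarTower R Rp B := IsScalarTower.of_algebraMap_eq' hRB
  haveI : Module.Flat R B := inferInstance
  haveI : Module.Flat Rp B := (Module.flat_iff_of_isLocalization Rp p.primeCompl B).2 inferInstance
  -- the fibre ring
  let mA := IsLocalRing.maximalIdeal Rp
  haveI : Nontrivial ((IsLocalRing.ResidueField Rp) ⊗[Rp] B) := by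
    have hle : mA.map (algebraMap Rp B) ≤ IsLocalRing.maximalIdeal B :=
      ((IsLocalRing.local_hom_TFAE (algebraMap Rp B)).out 0 2).1 hloc
    have hne : mA.map (algebraMap Rp B) ≠ ⊤ := fun h =>
      (IsLocalRing.maximalIdeal.isMaximal B).ne_top (top_le_iff.1 (h ▸ hle))
    haveI : Nontrivial (B ⧸ mA.map (algebraMap Rp B)) := Ideal.Quotient.nontrivial_iff.2 hne
    exact (Algebra.TensorProduct.quotIdealMapEquivQuotTensor B mA).toEquiv.symm.nontrivial
  have hgl : ∀ (M : Type u) [AddCommGroup M]
      [Module ((IsLocalRing.ResidueField Rp) ⊗[Rp] B) M],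
      HasProjectiveDimensionLT
        (ModuleCat.of ((IsLocalRing.ResidueField Rp) ⊗[Rp] B) M) (d + 1) := by
    intro M _ _
    exact pdLT_fibre R d p.primeCompl Rp (IsLocalRing.ResidueField Rp) Q.primeCompl B M
  -- the fibre
  let Kq := (DRing.LBaseChange (algebraMap A Aq)).obj K
  let L : Dual.D B := (DRing.restrictD (algebraMap B Aq)).obj Kq
  have e1 : (DRing.restrictD (algebraMap Rp B)).obj L ≅ (DRing.restrictD δ).obj Kq :=
    ((restrictDCompIso γ β).app Kq).symm ≪≫ (restrictDEqIso hβγ).app Kq
  have h : ∀ i : ℤ, (i < a ∨ b < i) → Subsingleton (Dual.HD (IsLocalRing.ResidueField Rp)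
      ((DRing.LBaseChange (algebraMap Rp (IsLocalRing.ResidueField Rp))).obj
        ((DRing.restrictD (algebraMap Rp B)).obj L)) i) := fun i hi =>
    subsingleton_HD_of_iso ((DRing.LBaseChange _).mapIso e1.symm) i (hfib i hi)
  have h7 : DRing.HasTorAmplitudeIn B (a - d) b L := (torAmp_of_fibre_gl Rp B d hgl a b L hL h).2
  -- restriction to `R`
  have hflat : (algebraMap R B).Flat := RingHom.flat_algebraMap_iff.2 inferInstance
  have h8 := hasTorAmplitudeIn_restrictD_of_flat (algebraMap R B) hflat L (a - d) b h7
  have hRAq : (algebraMap B Aq).comp (algebraMap R B) = algebraMap R Aq := by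
    refine RingHom.ext fun x => ?_
    show β (algebraMap R B x) = algebraMap R Aq x
    rw [IsScalarTower.algebraMap_apply R P B, Localization.localRingHom_to_map,
      IsScalarTower.algebraMap_apply R A Aq]
    show algebraMap A Aq (ψ (algebraMap R P x)) = _
    rw [ψ.commutes]
  exact hasTorAmplitudeIn_of_iso
    (((restrictDCompIso (algebraMap R B) (algebraMap B Aq)).app Kq).symm ≪≫
      (restrictDEqIso hRAq).app Kq) h8

include hψ in
/-- **S7104** -/
theorem main_S7104
    [DRing.HasLTensor (Localization.AtPrime p)
      (ModuleCat.of (Localization.AtPrime p) p.ResidueField)]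
    (K : Dual.D A) (hK : DRing.IsPseudoCoherent' A K) (a b : ℤ)
    (hfib : ∀ i : ℤ, i < a ∨ b < i → Subsingleton (Dual.HD (Localization.AtPrime p)
      ((DRing.LTensor (Localization.AtPrime p)
          (ModuleCat.of (Localization.AtPrime p) p.ResidueField)).obj
        ((DRing.restrictD (Localization.localRingHom p q (algebraMap R A) hpq)).obj
          ((DRing.LBaseChange (algebraMap A (Localization.AtPrime q))).obj K))) i)) :
    DRing.HasTorAmplitudeIn R (a - d) b
      ((DRing.restrictD (algebraMap R (Localization.AtPrime q))).obj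
        ((DRing.LBaseChange (algebraMap A (Localization.AtPrime q))).obj K)) :=
  torAmp_local R A d ψ hψ q p hpq K hK a b (fun i hi =>
    subsingleton_HD_lbc_of_ltensor (Localization.AtPrime p) p.ResidueField _ i (hfib i hi))

end

end Groth.Agent.Lib.Helper5.FibReg
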