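import Mathlib
import Groth.Agent.Lib.Helper5.FibReg.Main

/-!
# The fibre criterion for tor amplitude, global fibre form with generalizations (helper5)

`R → A` flat of finite presentation, `A` a quotient of `R[x_1, …, x_d]`, `M ∈ D(A)`
pseudo-coherent.  If the cohomology of `M ⊗^L_R κ(p₀)` vanishes outside `[a, b]` for the prime
`p₀ = q₀ ∩ R`, then for every prime `q' ⊆ q₀` the localization `M_{q'}` has tor amplitude in
`[a - d, b]` over `R`.
-/

set_option autoImplicit false
universe u
open CategoryTheory CategoryTheory.Limits TensorProduct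

attribute [local instance] HasDerivedCategory.standard

namespace Groth.Agent.Lib.Helper5.FibReg

open DerivedCategory _root_.Helper5.Shriek Groth.Agent.Lib.Helper5.DTenLib Groth.Agent.Lib.Helper5.TBC
  Groth.Agent.Helper1.TorL Groth.Agent.Lib.Helper5.KProj Groth.Agent.Helper5.TorAmp
  Groth.Agent.Helper5.PCHom Groth.Agent.Helper5.PCBuild

/-- the base change isomorphism of a flat pushout square -/
theorem nonempty_pushoutIso (P A B A' : Type u) [CommRing P] [CommRing A] [CommRing B]
    [CommRing A'] [Algebra P A] [Algebra P B] [Algebra A A'] [Algebra B A'] [Algebra P A']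
    [IsScalarTower P A A'] [IsScalarTower P B A'] [Algebra.IsPushout P A B A'] [Module.Flat P B]
    (K : Dual.D A) :
    Nonempty ((DRing.LBaseChange (algebraMap P B)).obj ((DRing.restrictD (algebraMap P A)).obj K) ≅
      (DRing.restrictD (algebraMap B A')).obj ((DRing.LBaseChange (algebraMap A A')).obj K)) := by
  have hsq : (algebraMap A A').comp (algebraMap P A) =
      (algebraMap B A').comp (algebraMap P B) := by
    rw [← IsScalarTower.algebraMap_eq, ← IsScalarTower.algebraMap_eq]
  have hc := isCocart_of_isPushout P A B A' hsq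
  have hta : TorIndep (algebraMap P A) (algebraMap P B) := by
    haveI : Module.Flat P (SR (algebraMap P B)) := Module.Flat.of_linearEquiv (ofLinSR P B).symm
    intro n
    exact isZero_tor_succ_of_flat_right (SR (algebraMap P B)) n
      ((ModuleCat.restrictScalars.{u} (algebraMap P A)).obj (ModuleCat.of A A))
  have hcmp : IsIso (TrivBC.cmp (myAdj (algebraMap P B)) (myAdj (algebraMap A A')) hsq K) :=
    isIso_cmp_myAdj hsq hc hta K
  exact ⟨@asIso _ _ _ _
    (TrivBC.cmp (myAdj (algebraMap P B)) (myAdj (algebraMap A A')) hsq K) hcmp⟩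

section PolyFibre

attribute [local instance] Algebra.TensorProduct.rightAlgebra

/-- all modules over `κ[x_1, …, x_d] = κ ⊗_R R[x_1, …, x_d]` have projective dimension `≤ d` -/
theorem pdLT_tensor_mvPolynomial (R : Type u) [CommRing R] (d : ℕ) (κ : Type u) [Field κ]
    [Algebra R κ] (N : Type u) [AddCommGroup N] [Module (κ ⊗[R] MvPolynomial (Fin d) R) N] :
    HasProjectiveDimensionLT (ModuleCat.of (κ ⊗[R] MvPolynomial (Fin d) R) N) (d + 1) := by
  haveI : IsLocalization (⊥ : Submonoid (κ ⊗[R] MvPolynomial (Fin d) R))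
      (κ ⊗[R] MvPolynomial (Fin d) R) := IsLocalization.self (by
    intro x hx
    rw [Submonoid.mem_bot] at hx
    rw [hx]
    exact isUnit_one)
  haveI : Nontrivial (κ ⊗[R] MvPolynomial (Fin d) R) :=
    (MvPolynomial.algebraTensorAlgEquiv R κ).toEquiv.nontrivial
  exact pdLT_of_localization_mvPolynomial κ d
    (MvPolynomial.algebraTensorAlgEquiv R κ).toRingEquiv ⊥ N

end PolyFibre

section Main

attribute [local instance] Algebra.TensorProduct.rightAlgebra

variable (R A : Type u) [CommRing R] [CommRing A] [Algebra R A]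
  [Module.Flat R A] [Algebra.FinitePresentation R A] (d : ℕ)
  (ψ : MvPolynomial (Fin d) R →ₐ[R] A) (hψ : Function.Surjective ψ)
  (q₀ : Ideal A) [q₀.IsPrime] (p₀ : Ideal R) [p₀.IsPrime]
  (hp₀ : p₀ = Ideal.comap (algebraMap R A) q₀)

include hψ hp₀ in
theorem torAmp_generalization (M : Dual.D A) (hM : DRing.IsPseudoCoherent' A M) (a b : ℤ)
    (h0 : ∀ i : ℤ, i < a ∨ b < i → Subsingleton (Dual.HD p₀.ResidueField
      ((DRing.LBaseChange (algebraMap R p₀.ResidueField)).obj
        ((DRing.restrictD (algebraMap R A)).obj M)) i))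
    (q' : Ideal A) [q'.IsPrime] (hq : q' ≤ q₀)
    (Aq : Type u) [CommRing Aq] [Algebra A Aq] [IsLocalization.AtPrime Aq q']
    [Algebra R Aq] [IsScalarTower R A Aq] :
    DRing.HasTorAmplitudeIn R (a - d) b
      ((DRing.restrictD (algebraMap R Aq)).obj
        ((DRing.LBaseChange (algebraMap A Aq)).obj M)) := by
  let P := MvPolynomial (Fin d) R
  let κ := p₀.ResidueField
  letI algPA : Algebra P A := ψ.toRingHom.toAlgebra
  have hPC : PCHom (algebraMap P A) := Groth.Agent.Lib.Helper5.FlatLfp.pchom_of_flat_fp ψ hψ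
  let N : Dual.D P := (DRing.restrictD (algebraMap P A)).obj M
  have hN : DRing.IsPseudoCoherent' P N :=
    pc'_of_forall_pc _ (fun m => (pc_restrict_iff (algebraMap P A) hPC M m).1 (pc_of_pc' hM m))
  -- the fibre of `N` over `κ`
  have hRA : (algebraMap P A).comp (algebraMap R P) = algebraMap R A := by
    refine RingHom.ext fun x => ?_
    show ψ (algebraMap R P x) = algebraMap R A x
    rw [ψ.commutes]
  have eN : (DRing.restrictD (algebraMap R P)).obj N ≅ (DRing.restrictD (algebraMap R A)).obj M :=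
    ((restrictDCompIso (algebraMap R P) (algebraMap P A)).app M).symm ≪≫
      (restrictDEqIso hRA).app M
  have h0' : ∀ j : ℤ, (j < a ∨ b < j) → Subsingleton (Dual.HD κ
      ((DRing.LBaseChange (algebraMap R κ)).obj ((DRing.restrictD (algebraMap R P)).obj N)) j) :=
    fun j hj => subsingleton_HD_of_iso ((DRing.LBaseChange (algebraMap R κ)).mapIso eN.symm) j
      (h0 j hj)
  have hglP : ∀ (N' : Type u) [AddCommGroup N'] [Module (κ ⊗[R] P) N'],
      HasProjectiveDimensionLT (ModuleCat.of (κ ⊗[R] P) N') (d + 1) := by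
    intro N' _ _
    exact pdLT_tensor_mvPolynomial R d κ N'
  have t := Groth.Agent.Helper3.FibTor.torAmp_fibre R P κ d hglP a b N h0'
  -- the local ring `B₀ = P_{Q₀}`
  let Q₀ : Ideal P := q₀.comap ψ.toRingHom
  haveI : Q₀.IsPrime := Ideal.comap_isPrime _ _
  have hpQ : ∀ x : R, algebraMap R P x ∈ Q₀ ↔ x ∈ p₀ := by
    intro x
    rw [hp₀]
    simp only [Q₀, Ideal.mem_comap]
    show ψ (algebraMap R P x) ∈ q₀ ↔ algebraMap R A x ∈ q₀
    rw [ψ.commutes]
  let B₀ := Localization.AtPrime Q₀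
  let m₀ := IsLocalRing.maximalIdeal B₀
  letI : Field (B₀ ⧸ m₀) := Ideal.Quotient.field m₀
  let L₀ : Dual.D B₀ := (DRing.LBaseChange (algebraMap P B₀)).obj N
  have hL₀ : DRing.IsPseudoCoherent' B₀ L₀ :=
    Groth.Agent.Lib.Helper5.RelPerfBC.isPseudoCoherent'_LBaseChange (algebraMap P B₀) N hN
  let f₀ : R →ₐ[R] B₀ ⧸ m₀ := Algebra.ofId R (B₀ ⧸ m₀)
  have hf₀ : ∀ x : R, f₀ x = 0 ↔ x ∈ p₀ := by
    intro x
    show algebraMap R (B₀ ⧸ m₀) x = 0 ↔ _
    rw [IsScalarTower.algebraMap_apply R B₀ (B₀ ⧸ m₀), Ideal.Quotient.algebraMap_eq,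
      Ideal.Quotient.eq_zero_iff_mem, IsScalarTower.algebraMap_apply R P B₀,
      IsLocalization.AtPrime.to_map_mem_maximal_iff B₀ Q₀, hpQ]
  have hf₁ : p₀ ≤ RingHom.ker f₀ := fun x hx => (RingHom.mem_ker).2 ((hf₀ x).2 hx)
  have hf₂ : p₀.primeCompl ≤ (IsUnit.submonoid (B₀ ⧸ m₀)).comap f₀ := by
    intro x hx
    show IsUnit (f₀ x)
    exact IsUnit.mk0 _ (fun h => hx ((hf₀ x).1 h))
  let g₁ : κ →ₐ[R] B₀ ⧸ m₀ := Ideal.ResidueField.liftₐ p₀ f₀ hf₁ hf₂
  let γ : (κ ⊗[R] P) →ₐ[R] B₀ ⧸ m₀ :=
    Algebra.TensorProduct.productMap g₁ (IsScalarTower.toAlgHom R P (B₀ ⧸ m₀))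
  have hγ : γ.toRingHom.comp (algebraMap P (κ ⊗[R] P)) =
      (Ideal.Quotient.mk m₀).comp (algebraMap P B₀) := by
    refine RingHom.ext fun x => ?_
    show γ ((1 : κ) ⊗ₜ[R] x) = _
    rw [Algebra.TensorProduct.productMap_apply_tmul, map_one, one_mul]
    rfl
  have hfib : ∀ i : ℤ, (i < a - d ∨ b < i) → Subsingleton (Dual.HD (B₀ ⧸ m₀)
      ((DRing.LBaseChange (Ideal.Quotient.mk m₀)).obj L₀) i) := by
    intro i hi
    have h6 := Groth.Agent.Lib.Helper5.KFlat.hasTorAmplitudeIn_LBaseChange γ.toRingHom _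
      (a - d) b t
    have e1 : (DRing.LBaseChange (γ.toRingHom.comp (algebraMap P (κ ⊗[R] P)))).obj N ≅
        (DRing.LBaseChange γ.toRingHom).obj
          ((DRing.LBaseChange (algebraMap P (κ ⊗[R] P))).obj N) :=
      (lbcCompIso (algebraMap P (κ ⊗[R] P)) γ.toRingHom).app N
    have e2 : (DRing.LBaseChange ((Ideal.Quotient.mk m₀).comp (algebraMap P B₀))).obj N ≅
        (DRing.LBaseChange (Ideal.Quotient.mk m₀)).obj L₀ :=
      (lbcCompIso (algebraMap P B₀) (Ideal.Quotient.mk m₀)).app N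
    have key := subsingleton_HD_of_iso e1.symm i (bounded_of_hasTorAmplitudeIn h6 i hi)
    exact subsingleton_HD_of_iso (((lbcEqIso hγ).app N) ≪≫ e2) i key
  have hB₀ : DRing.HasTorAmplitudeIn B₀ (a - d) b L₀ := by
    refine (Groth.Agent.Helper3.LocFib.main_S6974 B₀ L₀ hL₀ (a - d) b ?_).2
    intro m hm i hi
    have hmB : m = m₀ := IsLocalRing.eq_maximalIdeal hm
    subst hmB
    exact hfib i hi
  -- the localization at `q'`
  let Q' : Ideal P := q'.comap ψ.toRingHom
  haveI : Q'.IsPrime := Ideal.comap_isPrime _ _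
  have hQ : Q' ≤ Q₀ := Ideal.comap_mono hq
  let B' := Localization.AtPrime Q'
  have hunit : ∀ y : Q₀.primeCompl, IsUnit (algebraMap P B' y) := fun y =>
    IsLocalization.map_units B' (⟨y.1, fun h => y.2 (hQ h)⟩ : Q'.primeCompl)
  let σ : B₀ →+* B' := IsLocalization.lift (M := Q₀.primeCompl) (g := algebraMap P B') hunit
  have hσ : σ.comp (algebraMap P B₀) = algebraMap P B' := IsLocalization.lift_comp hunit
  let L' : Dual.D B' := (DRing.LBaseChange (algebraMap P B')).obj N
  have eL' : (DRing.LBaseChange σ).obj L₀ ≅ L' :=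
    ((lbcCompIso (algebraMap P B₀) σ).app N).symm ≪≫ (lbcEqIso hσ).app N
  have hB' : DRing.HasTorAmplitudeIn B' (a - d) b L' :=
    hasTorAmplitudeIn_of_iso eL'
      (Groth.Agent.Lib.Helper5.KFlat.hasTorAmplitudeIn_LBaseChange σ _ (a - d) b hB₀)
  -- the pushout square at `q'`
  have hunit' : ∀ y : Q'.primeCompl, IsUnit (((algebraMap A Aq).comp ψ.toRingHom) y) := fun y =>
    IsLocalization.map_units Aq (⟨ψ y.1, y.2⟩ : q'.primeCompl)
  let β : B' →+* Aq :=
    IsLocalization.lift (M := Q'.primeCompl) (g := (algebraMap A Aq).comp ψ.toRingHom) hunit'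
  have hβ : β.comp (algebraMap P B') = (algebraMap A Aq).comp ψ.toRingHom :=
    IsLocalization.lift_comp hunit'
  letI algBAq : Algebra B' Aq := β.toAlgebra
  letI algPAq : Algebra P Aq := ((algebraMap A Aq).comp ψ.toRingHom).toAlgebra
  haveI : IsScalarTower P A Aq := IsScalarTower.of_algebraMap_eq' rfl
  haveI : IsScalarTower P B' Aq := IsScalarTower.of_algebraMap_eq' hβ.symm
  have hsub : Algebra.algebraMapSubmonoid A Q'.primeCompl = q'.primeCompl := by
    ext x
    constructor
    · rintro ⟨y, hy, rfl⟩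
      exact hy
    · intro hx
      obtain ⟨y, rfl⟩ := hψ x
      exact ⟨y, hx, rfl⟩
  haveI : IsLocalization (Algebra.algebraMapSubmonoid A Q'.primeCompl) Aq := by
    rw [hsub]
    infer_instance
  haveI : Algebra.IsPushout P A B' Aq := Algebra.isPushout_of_isLocalization Q'.primeCompl B' A Aq
  haveI : Module.Flat P B' := IsLocalization.flat B' Q'.primeCompl
  obtain ⟨c⟩ := nonempty_pushoutIso P A B' Aq M
  -- restriction to `R`
  let Mq := (DRing.LBaseChange (algebraMap A Aq)).obj M
  have h7 : DRing.HasTorAmplitudeIn B' (a - d) b ((DRing.restrictD (algebraMap B' Aq)).obj Mq) :=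
    hasTorAmplitudeIn_of_iso c hB'
  haveI : Module.Flat R B' := inferInstance
  have hflat : (algebraMap R B').Flat := RingHom.flat_algebraMap_iff.2 inferInstance
  have h8 := hasTorAmplitudeIn_restrictD_of_flat (algebraMap R B') hflat _ (a - d) b h7
  have hRAq : (algebraMap B' Aq).comp (algebraMap R B') = algebraMap R Aq := by
    refine RingHom.ext fun x => ?_
    show β (algebraMap R B' x) = algebraMap R Aq x
    rw [IsScalarTower.algebraMap_apply R P B']
    have := congrArg (fun φ => φ (algebraMap R P x)) hβ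
    simp only [RingHom.comp_apply] at this
    rw [this, IsScalarTower.algebraMap_apply R A Aq]
    show algebraMap A Aq (ψ (algebraMap R P x)) = _
    rw [ψ.commutes]
  exact hasTorAmplitudeIn_of_iso
    (((restrictDCompIso (algebraMap R B') (algebraMap B' Aq)).app Mq).symm ≪≫
      (restrictDEqIso hRAq).app Mq) h8

end Main

end Groth.Agent.Lib.Helper5.FibReg
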