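import Mathlib
import Groth.Agent.Lib.Helper5.FibReg.Gen

/-!
# Relative tor amplitude near the fibre over a closed subscheme of the base (ring form) (helper5)

`R → R₀` surjective, `R → A` flat of finite presentation with `A` a quotient of `R[x_1..x_d]`,
`A₀ = A ⊗_R R₀`, `M ∈ D(A)` pseudo-coherent such that `M ⊗^L_A A₀` has tor amplitude in `[a, b]` over
`R₀`.  Then `M_{q'}` has tor amplitude in `[a - d, b]` over `R` for every prime `q'` contained in a
prime `q₀` of `A` lying over `V(ker (R → R₀))`.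
-/

set_option autoImplicit false
universe u
open CategoryTheory CategoryTheory.Limits TensorProduct

attribute [local instance] HasDerivedCategory.standard

namespace Groth.Agent.Lib.Helper5.FibReg

open DerivedCategory _root_.Helper5.Shriek Groth.Agent.Lib.Helper5.DTenLib Groth.Agent.Lib.Helper5.TBC
  Groth.Agent.Helper1.TorL Groth.Agent.Lib.Helper5.KProj Groth.Agent.Helper5.TorAmp
  Groth.Agent.Helper5.PCHom Groth.Agent.Helper5.PCBuild

/-- the base change isomorphism of a pushout square with flat first leg -/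
theorem nonempty_pushoutIso_left (R A R' A' : Type u) [CommRing R] [CommRing A] [CommRing R']
    [CommRing A'] [Algebra R A] [Algebra R R'] [Algebra A A'] [Algebra R' A'] [Algebra R A']
    [IsScalarTower R A A'] [IsScalarTower R R' A'] [Algebra.IsPushout R A R' A'] [Module.Flat R A]
    (K : Dual.D A) :
    Nonempty ((DRing.LBaseChange (algebraMap R R')).obj ((DRing.restrictD (algebraMap R A)).obj K) ≅
      (DRing.restrictD (algebraMap R' A')).obj ((DRing.LBaseChange (algebraMap A A')).obj K)) := by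
  have hsq : (algebraMap A A').comp (algebraMap R A) =
      (algebraMap R' A').comp (algebraMap R R') := by
    rw [← IsScalarTower.algebraMap_eq, ← IsScalarTower.algebraMap_eq]
  haveI : Module.Flat R ((ModuleCat.restrictScalars.{u} (algebraMap R A)).obj (ModuleCat.of A A)) :=
    Module.Flat.of_linearEquiv (resUnitLin R A)
  have hta : TorIndep (algebraMap R A) (algebraMap R R') := TA.of_flat _ _
  have hcmp : IsIso (TrivBC.cmp (myAdj (algebraMap R R')) (myAdj (algebraMap A A')) hsq K) :=
    isIso_cmp_myAdj hsq (isCocart_of_isPushout R A R' A' hsq) hta K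
  exact ⟨@asIso _ _ _ _
    (TrivBC.cmp (myAdj (algebraMap R R')) (myAdj (algebraMap A A')) hsq K) hcmp⟩

section Main

variable (R R₀ A A₀ : Type u) [CommRing R] [CommRing R₀] [CommRing A] [CommRing A₀]
  [Algebra R A] [Algebra R R₀] [Algebra A A₀] [Algebra R₀ A₀] [Algebra R A₀]
  [IsScalarTower R A A₀] [IsScalarTower R R₀ A₀] [Algebra.IsPushout R A R₀ A₀]
  [Module.Flat R A] [Algebra.FinitePresentation R A] (d : ℕ)
  (ψ : MvPolynomial (Fin d) R →ₐ[R] A) (hψ : Function.Surjective ψ)

include hψ in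
theorem torAmp_of_quotient (hsurj : Function.Surjective (algebraMap R R₀))
    (M : Dual.D A) (hM : DRing.IsPseudoCoherent' A M) (a b : ℤ)
    (hM₀ : DRing.HasTorAmplitudeIn R₀ a b ((DRing.restrictD (algebraMap R₀ A₀)).obj
      ((DRing.LBaseChange (algebraMap A A₀)).obj M)))
    (q₀ : Ideal A) [q₀.IsPrime]
    (hker : RingHom.ker (algebraMap R R₀) ≤ q₀.comap (algebraMap R A))
    (q' : Ideal A) [q'.IsPrime] (hq : q' ≤ q₀)
    (Aq : Type u) [CommRing Aq] [Algebra A Aq] [IsLocalization.AtPrime Aq q']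
    [Algebra R Aq] [IsScalarTower R A Aq] :
    DRing.HasTorAmplitudeIn R (a - d) b
      ((DRing.restrictD (algebraMap R Aq)).obj
        ((DRing.LBaseChange (algebraMap A Aq)).obj M)) := by
  let p₀ : Ideal R := q₀.comap (algebraMap R A)
  haveI : p₀.IsPrime := Ideal.comap_isPrime _ _
  let κ := p₀.ResidueField
  have hker' : RingHom.ker (algebraMap R R₀) ≤ RingHom.ker (algebraMap R κ) := by
    rw [Ideal.ker_algebraMap_residueField]
    exact hker
  let ρ₀ : R₀ →+* κ := (algebraMap R R₀).liftOfSurjective hsurj ⟨algebraMap R κ, hker'⟩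
  have hρ₀ : ρ₀.comp (algebraMap R R₀) = algebraMap R κ :=
    RingHom.liftOfSurjective_comp (algebraMap R R₀) hsurj ⟨algebraMap R κ, hker'⟩
  let Y : Dual.D R := (DRing.restrictD (algebraMap R A)).obj M
  obtain ⟨c₀⟩ := nonempty_pushoutIso_left R A R₀ A₀ M
  have h1 : DRing.HasTorAmplitudeIn R₀ a b ((DRing.LBaseChange (algebraMap R R₀)).obj Y) :=
    hasTorAmplitudeIn_of_iso c₀.symm hM₀
  have h2 := Groth.Agent.Lib.Helper5.KFlat.hasTorAmplitudeIn_LBaseChange ρ₀ _ a b h1
  have e1 : (DRing.LBaseChange (ρ₀.comp (algebraMap R R₀))).obj Y ≅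
      (DRing.LBaseChange ρ₀).obj ((DRing.LBaseChange (algebraMap R R₀)).obj Y) :=
    (lbcCompIso (algebraMap R R₀) ρ₀).app Y
  have h0 : ∀ i : ℤ, i < a ∨ b < i → Subsingleton (Dual.HD κ
      ((DRing.LBaseChange (algebraMap R κ)).obj Y) i) := fun i hi =>
    subsingleton_HD_of_iso (e1.symm ≪≫ (lbcEqIso hρ₀).app Y) i
      (bounded_of_hasTorAmplitudeIn h2 i hi)
  exact torAmp_generalization R A d ψ hψ q₀ p₀ rfl M hM a b h0 q' hq Aq

end Main

end Groth.Agent.Lib.Helper5.FibReg
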