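import Mathlib
import Groth.Agent.Lib.Helper5.DerSchTor.SpecTor
import Groth.Agent.Lib.Helper5.FibStalk.RingBC

/-!
# Stalkwise tor amplitude of `K^~` at a point from the localization at that point (helper5)
-/
set_option autoImplicit false
set_option linter.unusedSectionVars false
set_option linter.unusedVariables false
set_option linter.style.haveILetI false
universe u
open CategoryTheory CategoryTheory.Limits MonoidalCategory AlgebraicGeometry
attribute [local instance] HasDerivedCategory.standard

namespace Groth.Agent.Lib.Helper5.FibReg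

open Groth.Agent.Lib.Helper5.StalkTot Groth.Agent.Lib.Helper5.StalkAdj
open Groth.Agent.Helper5.TorAmp Groth.Agent.Lib.Helper5.TensorAmp
open Groth.Agent.Lib.Helper5.TildeStalk Groth.Agent.Lib.Helper5.KSixTilde
open Groth.Agent.Lib.Helper5.DerSchTor Groth.Agent.Lib.Helper5.KFlat
open DTen

/-- extension of scalars along the identity, on complexes -/
noncomputable def extIdCxIso (S : Type u) [CommRing S] : extCx (RingHom.id S) ≅ 𝟭 (DRing.Cx S) :=
  NatIso.mapHomologicalComplex (ModuleCat.extendScalarsId S) (ComplexShape.up ℤ) ≪≫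
    Functor.mapHomologicalComplexIdIso _ _

variable {R A : Type u} [CommRing R] [CommRing A] (φ : R →+* A)
  [PreservesFiniteLimits (tilde.functor (CommRingCat.of A))]

/-- tor amplitude over `R` of the localization of `K` at `x` gives the stalkwise tor amplitude of
`K^~` at `x` relative to `Spec A → Spec R` -/
theorem hasTorAmplitudeAt_tilde_of_stalk (K : DRing.Cx A) (hK : DRing.IsKFlat A K)
    (x : Spec (CommRingCat.of A)) (a b : ℤ)
    (h : DRing.HasTorAmplitudeIn R a b
      ((DRing.restrictD ((phi (CommRingCat.of A) x).comp φ)).obj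
        ((DRing.LBaseChange (phi (CommRingCat.of A) x)).obj (DRing.toD K)))) :
    DerSch.HasTorAmplitudeAt (Spec.map (CommRingCat.ofHom φ)) a b
      (((tilde.functor (CommRingCat.of A)).mapHomologicalComplex (ComplexShape.up ℤ)).obj K) x := by
  rw [hasTorAmplitudeAt_iff]
  refine hasTorAmplitudeIn_of_iso (DerivedCategory.Q.mapIso (resStalkTildeIso φ K x)).symm ?_
  apply hasTorAmplitudeIn_of_torVanF
  let lx := phi (CommRingCat.of A) x
  let K₁ := (extCx lx).obj K
  have h1 : TorVanF a b ((resCx (lx.comp φ)).obj K₁) := by
    apply torVanF_of_hasTorAmplitudeIn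
    exact hasTorAmplitudeIn_of_iso
      ((DRing.restrictD (lx.comp φ)).mapIso (lbcIsoFlat lx K hK) ≪≫
        (resFactors (lx.comp φ)).app K₁) h
  have h2 := torVanF_local_of_global (lx.comp φ)
    (phi (CommRingCat.of R) ((Spec.map (CommRingCat.ofHom φ)).base x))
    (RingHom.id _) ((Spec.map (CommRingCat.ofHom φ)).stalkMap x).hom
    (by rw [RingHom.id_comp]; exact phi_comm φ x)
    (flat_phi (CommRingCat.of R) _)
    (by
      letI := (RingHom.id ((Spec (CommRingCat.of A)).presheaf.stalk x)).toAlgebra
      exact Module.Flat.self)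
    (fun N' => isIso_counit_of_isLocalization _
      (((Spec.map (CommRingCat.ofHom φ)).base x).asIdeal.primeCompl)
      (isLocalization_phi (CommRingCat.of R) _) N') K₁ a b h1
  exact (torVanF_iff_of_iso
    ((resCx ((Spec.map (CommRingCat.ofHom φ)).stalkMap x).hom).mapIso
      ((extIdCxIso _).app K₁)) a b).1 h2

end Groth.Agent.Lib.Helper5.FibReg
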