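import Mathlib
import Groth.Agent.Lib.Helper5.Thick.RelPerf
import Groth.Agent.Lib.Helper5.FibReg.Quot
import Groth.Agent.Lib.Helper5.FibReg.StalkDict

/-!
# Relative tor amplitude on a chart near the fibre over a closed subscheme of the base (helper5)
-/

set_option autoImplicit false
set_option linter.unusedSectionVars false
set_option linter.unusedVariables false
set_option linter.style.haveILetI false
universe u
open CategoryTheory CategoryTheory.Limits Opposite TopologicalSpace AlgebraicGeometry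

attribute [local instance] HasDerivedCategory.standard

namespace Groth.Agent.Lib.Helper5.FibReg

open Groth.Agent.Lib.Helper5.RelTor Groth.Agent.Lib.Helper5.QC Groth.Agent.Lib.Helper5.BCGeo
  Groth.Agent.Lib.Helper5.AffComm Groth.Agent.Lib.Helper5.PCTri Groth.Agent.Lib.Helper5.Thick
  Groth.Agent.Lib.Helper5.DerSchTor Groth.Agent.Lib.Helper5.StalkAdj Groth.Agent.Lib.Helper5.TildeStalk
  Groth.Agent.Lib.Helper5.IsoSq Groth.Agent.Helper5.TorAmp Groth.Agent.Lib.Helper5.LocNull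

/-- `CommRingCat` form of `hasTorAmplitudeAt_tilde_of_stalk` -/
theorem hasTorAmplitudeAt_tilde_of_stalk' {R A : CommRingCat.{u}} (φ : R ⟶ A)
    [PreservesFiniteLimits (tilde.functor A)] (K : DRing.Cx A) (hK : DRing.IsKFlat A K)
    (x : Spec A) (a b : ℤ)
    (h : DRing.HasTorAmplitudeIn R a b
      ((DRing.restrictD ((phi A x).comp φ.hom)).obj
        ((DRing.LBaseChange (phi A x)).obj (DRing.toD K)))) :
    DerSch.HasTorAmplitudeAt (Spec.map φ) a b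
      (((tilde.functor A).mapHomologicalComplex (ComplexShape.up ℤ)).obj K) x :=
  hasTorAmplitudeAt_tilde_of_stalk φ.hom K hK x a b h

section Chart

variable {X S X₀ S₀ : Scheme.{u}} (f : X ⟶ S) (f₀ : X₀ ⟶ S₀) (i : X₀ ⟶ X) (j : S₀ ⟶ S)

/-- uniform relative tor amplitude at all generalizations of the points of the closed fibre lying
on one affine chart -/
theorem exists_torAmp_chart (sq : IsPullback i f₀ f j) [Flat f] [LocallyOfFinitePresentation f]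
    [IsClosedImmersion j] [DCoh.HasLpull i] (E : DCoh.D X)
    (hpc : ∀ m : ℤ, DCoh.IsPseudoCoherentD m E)
    (hpc₀ : ∀ m : ℤ, DCoh.IsPseudoCoherentD m ((DCoh.Lpull i).obj E))
    (htor₀ : DCoh.LocHasFiniteRelTorDim f₀ ((DCoh.Lpull i).obj E))
    {W : S.Opens} (hW : IsAffineOpen W) {U : X.Opens} (hU : IsAffineOpen U)
    (hUW : U ≤ f ⁻¹ᵁ W) :
    ∃ a' b' : ℤ, ∀ (F : CochainComplex X.Modules ℤ), Nonempty (DCoh.toD X F ≅ E) →
      ∀ (x₀ : X₀), i.base x₀ ∈ U → ∀ x' : X, x' ⤳ i.base x₀ →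
        DerSch.HasTorAmplitudeAt f a' b' F x' := by
  haveI : Flat f₀ := MorphismProperty.of_isPullback sq inferInstance
  have hE : DCoh.IsQCohD E := isQCohD_of_isPC _ hpc
  obtain ⟨M, ⟨eM⟩⟩ := exists_tilde E hE hU
  obtain ⟨hU₀, hpo⟩ := isPushout_chart sq hW hU (hW.preimage j) hUW le_rfl
  obtain ⟨t⟩ := nonempty_tilde_lpull i E hU hU₀ inf_le_left M eM
  have h1 := relPerfect_affine_of_relPerfect f₀ hU₀ (hW.preimage j) inf_le_right
    ((DCoh.Lpull i).obj E) hpc₀ htor₀ _ (resTwoIso hU₀ _ ≪≫ t.symm)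
  -- algebra structures
  let U₀ : X₀.Opens := i ⁻¹ᵁ U ⊓ f₀ ⁻¹ᵁ (j ⁻¹ᵁ W)
  letI algRA := (f.appLE W U hUW).hom.toAlgebra
  letI algRR₀ := (j.appLE W (j ⁻¹ᵁ W) le_rfl).hom.toAlgebra
  letI algR₀A₀ := (f₀.appLE (j ⁻¹ᵁ W) U₀ inf_le_right).hom.toAlgebra
  letI algAA₀ := (i.appLE U U₀ inf_le_left).hom.toAlgebra
  letI algRA₀ : Algebra Γ(S, W) Γ(X₀, U₀) :=
    ((f₀.appLE (j ⁻¹ᵁ W) U₀ inf_le_right).hom.comp
      (j.appLE W (j ⁻¹ᵁ W) le_rfl).hom).toAlgebra
  haveI : IsScalarTower Γ(S, W) Γ(S₀, j ⁻¹ᵁ W) Γ(X₀, U₀) :=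
    IsScalarTower.of_algebraMap_eq (fun _ => rfl)
  haveI : IsScalarTower Γ(S, W) Γ(X, U) Γ(X₀, U₀) :=
    IsScalarTower.of_algebraMap_eq (fun x => by
      have := congrArg (fun φ => φ.hom x) hpo.w
      exact this.symm)
  haveI hpo' : Algebra.IsPushout Γ(S, W) Γ(X, U) Γ(S₀, j ⁻¹ᵁ W) Γ(X₀, U₀) :=
    CommRingCat.isPushout_iff_isPushout.1 hpo
  haveI : Module.Flat Γ(S, W) Γ(X, U) := Flat.flat_appLE f hW hU hUW
  haveI : Algebra.FinitePresentation Γ(S, W) Γ(X, U) :=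
    HasRingHomProperty.appLE @LocallyOfFinitePresentation f inferInstance ⟨W, hW⟩ ⟨U, hU⟩ hUW
  have hs : Function.Surjective (algebraMap Γ(S, W) Γ(S₀, j ⁻¹ᵁ W)) := by
    show Function.Surjective (j.appLE W (j ⁻¹ᵁ W) le_rfl).hom
    rw [Scheme.Hom.appLE_eq_app]
    exact j.app_surjective W hW
  obtain ⟨hM₀pc, a, b, hab⟩ := h1
  obtain ⟨d, ψ, hψ⟩ := Groth.Agent.Helper5.PCHom.exists_presentation
    (R := Γ(S, W)) (A := Γ(X, U))
  have hM : DRing.IsPseudoCoherent' Γ(X, U) M :=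
    (Groth.Agent.Helper5.PCBuild.s2066 M).1.1 (fun m =>
      (Groth.Agent.Lib.Helper5.TildePC.isPseudoCoherentD_tildeD_iff Γ(X, U) M m).1
        (isPC_of_iso eM.symm (isPC_restrictD hU.fromSpec (hpc m))))
  obtain ⟨K, hKp, ⟨eK⟩⟩ := Groth.Agent.Lib.Helper5.KProj.exists_kproj_rep M
  haveI := hKp
  have hKflat : DRing.IsKFlat Γ(X, U) K := _root_.Helper5.Gen.isKFlat_of_isKProjective K
  refine ⟨a - d, b, fun F ⟨eF⟩ x₀ hx₀ x' hx' => ?_⟩
  -- points
  have hx'U : x' ∈ U := hx'.mem_open U.2 hx₀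
  have hx₀U₀ : x₀ ∈ U₀ := by
    refine ⟨hx₀, ?_⟩
    have hw : j.base (f₀.base x₀) = f.base (i.base x₀) := by
      have := congrArg (fun φ : X₀ ⟶ S => φ.base x₀) sq.w
      simpa using this.symm
    show j.base (f₀.base x₀) ∈ W
    rw [hw]
    exact hUW hx₀
  obtain ⟨x'', rfl⟩ : ∃ x'' : Spec Γ(X, U), hU.fromSpec.base x'' = x' := by
    have : x' ∈ Set.range hU.fromSpec := by rw [hU.range_fromSpec]; exact hx'U
    exact this
  obtain ⟨z₀, hz₀⟩ : ∃ z₀ : Spec Γ(X₀, U₀), hU₀.fromSpec.base z₀ = x₀ := by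
    have : x₀ ∈ Set.range hU₀.fromSpec := by rw [hU₀.range_fromSpec]; exact hx₀U₀
    exact this
  let y₀ : Spec Γ(X, U) := (Spec.map (i.appLE U U₀ inf_le_left)).base z₀
  have hy₀ : hU.fromSpec.base y₀ = i.base x₀ := by
    have hsq := IsAffineOpen.SpecMap_appLE_fromSpec i hU hU₀ inf_le_left
    have := congrArg (fun φ : Spec Γ(X₀, U₀) ⟶ X => φ.base z₀) hsq
    rw [← hz₀]
    simpa using this
  have hspec : x'' ⤳ y₀ := by
    rw [← hy₀] at hx'
    exact (hU.fromSpec.isOpenEmbedding.isInducing.specializes_iff).1 hx'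
  have hle : x''.asIdeal ≤ y₀.asIdeal := (PrimeSpectrum.le_iff_specializes x'' y₀).2 hspec
  have hker : RingHom.ker (algebraMap Γ(S, W) Γ(S₀, j ⁻¹ᵁ W)) ≤
      y₀.asIdeal.comap (algebraMap Γ(S, W) Γ(X, U)) := by
    intro r hr
    rw [Ideal.mem_comap]
    show (i.appLE U U₀ inf_le_left).hom ((f.appLE W U hUW).hom r) ∈ z₀.asIdeal
    have h0 : (i.appLE U U₀ inf_le_left).hom ((f.appLE W U hUW).hom r) =
        (f₀.appLE (j ⁻¹ᵁ W) U₀ inf_le_right).hom ((j.appLE W (j ⁻¹ᵁ W) le_rfl).hom r) :=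
      congrArg (fun φ => φ.hom r) hpo.w
    have hr0 : (j.appLE W (j ⁻¹ᵁ W) le_rfl).hom r = 0 := (RingHom.mem_ker).1 hr
    rw [h0, hr0, map_zero]
    exact zero_mem _
  haveI : (y₀.asIdeal).IsPrime := y₀.isPrime
  haveI : (x''.asIdeal).IsPrime := x''.isPrime
  let Ox := (Spec Γ(X, U)).presheaf.stalk x''
  letI algAOx : Algebra Γ(X, U) Ox := (phi Γ(X, U) x'').toAlgebra
  haveI : IsLocalization.AtPrime Ox x''.asIdeal := isLocalization_phi Γ(X, U) x''
  letI algROx : Algebra Γ(S, W) Ox :=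
    ((phi Γ(X, U) x'').comp (f.appLE W U hUW).hom).toAlgebra
  haveI : IsScalarTower Γ(S, W) Γ(X, U) Ox := IsScalarTower.of_algebraMap_eq (fun _ => rfl)
  have h2 := torAmp_of_quotient Γ(S, W) Γ(S₀, j ⁻¹ᵁ W) Γ(X, U) Γ(X₀, U₀) d ψ hψ hs M hM a b hab
    y₀.asIdeal hker x''.asIdeal hle Ox
  have h3 : DRing.HasTorAmplitudeIn Γ(S, W) (a - d) b
      ((DRing.restrictD ((phi Γ(X, U) x'').comp (f.appLE W U hUW).hom)).obj
        ((DRing.LBaseChange (phi Γ(X, U) x'')).obj (DRing.toD K))) :=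
    hasTorAmplitudeIn_of_iso
      ((DRing.restrictD _).mapIso ((DRing.LBaseChange _).mapIso eK.symm)) h2
  have h4 := hasTorAmplitudeAt_tilde_of_stalk' (f.appLE W U hUW) K hKflat x'' (a - d) b h3
  have e₁ : DCoh.toD _ (((tilde.functor Γ(X, U)).mapHomologicalComplex
      (ComplexShape.up ℤ)).obj K) ≅ DCoh.toD _ ((RCx hU.fromSpec).obj F) :=
    ((tilde.functor Γ(X, U)).mapDerivedCategoryFactors.app K).symm ≪≫
      (DCoh.tildeD Γ(X, U)).mapIso eK ≪≫ eM ≪≫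
      (DCoh.restrictD hU.fromSpec).mapIso eF.symm ≪≫
      (Scheme.Modules.restrictFunctor hU.fromSpec).mapDerivedCategoryFactors.app F
  have h5 := hasTorAmplitudeAt_of_iso (Spec.map (f.appLE W U hUW)) x'' e₁ (a - d) b h4
  exact (hasTorAmplitudeAt_fromSpec_iff f hU hW hUW F (a - d) b x'').2 h5

end Chart

end Groth.Agent.Lib.Helper5.FibReg
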