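import Mathlib
import Groth.Agent.Lib.Helper5.FibReg.Gen

/-!
# Local tor amplitude over a polynomial ring from the fibre (helper5)

`P = R[x_1, …, x_d]`, `N ∈ D(P)` pseudo-coherent, `Q₀` a prime of `P` over the prime `p₀` of `R`.
If the cohomology of `N ⊗^L_R κ(p₀)` vanishes outside `[a, b]` then `N_{Q₀}` has tor amplitude in
`[a - d, b]` over `P_{Q₀}`.
-/

set_option autoImplicit false
universe u
open CategoryTheory CategoryTheory.Limits TensorProduct

attribute [local instance] HasDerivedCategory.standard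

namespace Groth.Agent.Lib.Helper5.FibReg

open DerivedCategory _root_.Helper5.Shriek Groth.Agent.Lib.Helper5.DTenLib Groth.Agent.Lib.Helper5.TBC
  Groth.Agent.Helper1.TorL Groth.Agent.Lib.Helper5.KProj Groth.Agent.Helper5.TorAmp
  Groth.Agent.Helper5.PCHom Groth.Agent.Helper5.PCBuild

section Main

attribute [local instance] Algebra.TensorProduct.rightAlgebra

theorem torAmp_local_of_fibre (R : Type u) [CommRing R] (d : ℕ)
    (N : Dual.D (MvPolynomial (Fin d) R))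
    (hN : DRing.IsPseudoCoherent' (MvPolynomial (Fin d) R) N)
    (Q₀ : Ideal (MvPolynomial (Fin d) R)) [Q₀.IsPrime] (p₀ : Ideal R) [p₀.IsPrime]
    (hpQ : ∀ x : R, algebraMap R (MvPolynomial (Fin d) R) x ∈ Q₀ ↔ x ∈ p₀) (a b : ℤ)
    (h0' : ∀ j : ℤ, (j < a ∨ b < j) → Subsingleton (Dual.HD p₀.ResidueField
      ((DRing.LBaseChange (algebraMap R p₀.ResidueField)).obj
        ((DRing.restrictD (algebraMap R (MvPolynomial (Fin d) R))).obj N)) j)) :
    DRing.HasTorAmplitudeIn (Localization.AtPrime Q₀) (a - d) b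
      ((DRing.LBaseChange (algebraMap (MvPolynomial (Fin d) R) (Localization.AtPrime Q₀))).obj N) := by
  let P := MvPolynomial (Fin d) R
  let κ := p₀.ResidueField
  have hglP : ∀ (N' : Type u) [AddCommGroup N'] [Module (κ ⊗[R] P) N'],
      HasProjectiveDimensionLT (ModuleCat.of (κ ⊗[R] P) N') (d + 1) := by
    intro N' _ _
    exact pdLT_tensor_mvPolynomial R d κ N'
  have t := Groth.Agent.Helper3.FibTor.torAmp_fibre R P κ d hglP a b N h0'
  let B₀ := Localization.AtPrime Q₀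
  let m₀ := IsLocalRing.maximalIdeal B₀
  letI : Field (B₀ ⧸ m₀) := Ideal.Quotient.field m₀
  let L₀ : Dual.D B₀ := (DRing.LBaseChange (algebraMap P B₀)).obj N
  have hL₀ : DRing.IsPseudoCoherent' B₀ L₀ :=
    Groth.Agent.Lib.Helper5.RelPerfBC.isPseudoCoherent'_LBaseChange (algebraMap P B₀) N hN
  let f₀ : R →ₐ[R] B₀ ⧸ m₀ := Algebra.ofId R (B₀ ⧸ m₀)
  have hf₀ : ∀ x : R, f₀ x = 0 ↔ x ∈ p₀ := by
    intro x
    show algebraMap R (B₀ ⧸ m₀) x = 0 ↔ _
    rw [IsScalarTower.algebraMap_apply R B₀ (B₀ ⧸ m₀), Ideal.Quotient.algebraMap_eq,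
      Ideal.Quotient.eq_zero_iff_mem, IsScalarTower.algebraMap_apply R P B₀,
      IsLocalization.AtPrime.to_map_mem_maximal_iff B₀ Q₀, hpQ]
  have hf₁ : p₀ ≤ RingHom.ker f₀ := fun x hx => (RingHom.mem_ker).2 ((hf₀ x).2 hx)
  have hf₂ : p₀.primeCompl ≤ (IsUnit.submonoid (B₀ ⧸ m₀)).comap f₀ := by
    intro x hx
    show IsUnit (f₀ x)
    exact IsUnit.mk0 _ (fun h => hx ((hf₀ x).1 h))
  let g₁ : κ →ₐ[R] B₀ ⧸ m₀ := Ideal.ResidueField.liftₐ p₀ f₀ hf₁ hf₂
  let γ : (κ ⊗[R] P) →ₐ[R] B₀ ⧸ m₀ :=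
    Algebra.TensorProduct.productMap g₁ (IsScalarTower.toAlgHom R P (B₀ ⧸ m₀))
  have hγ : γ.toRingHom.comp (algebraMap P (κ ⊗[R] P)) =
      (Ideal.Quotient.mk m₀).comp (algebraMap P B₀) := by
    refine RingHom.ext fun x => ?_
    show γ ((1 : κ) ⊗ₜ[R] x) = _
    rw [Algebra.TensorProduct.productMap_apply_tmul, map_one, one_mul]
    rfl
  have hfib : ∀ i : ℤ, (i < a - d ∨ b < i) → Subsingleton (Dual.HD (B₀ ⧸ m₀)
      ((DRing.LBaseChange (Ideal.Quotient.mk m₀)).obj L₀) i) := by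
    intro i hi
    have h6 := Groth.Agent.Lib.Helper5.KFlat.hasTorAmplitudeIn_LBaseChange γ.toRingHom _
      (a - d) b t
    have e1 : (DRing.LBaseChange (γ.toRingHom.comp (algebraMap P (κ ⊗[R] P)))).obj N ≅
        (DRing.LBaseChange γ.toRingHom).obj
          ((DRing.LBaseChange (algebraMap P (κ ⊗[R] P))).obj N) :=
      (lbcCompIso (algebraMap P (κ ⊗[R] P)) γ.toRingHom).app N
    have e2 : (DRing.LBaseChange ((Ideal.Quotient.mk m₀).comp (algebraMap P B₀))).obj N ≅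
        (DRing.LBaseChange (Ideal.Quotient.mk m₀)).obj L₀ :=
      (lbcCompIso (algebraMap P B₀) (Ideal.Quotient.mk m₀)).app N
    have key := subsingleton_HD_of_iso e1.symm i (bounded_of_hasTorAmplitudeIn h6 i hi)
    exact subsingleton_HD_of_iso (((lbcEqIso hγ).app N) ≪≫ e2) i key
  refine (Groth.Agent.Helper3.LocFib.main_S6974 B₀ L₀ hL₀ (a - d) b ?_).2
  intro m hm i hi
  have hmB : m = m₀ := IsLocalRing.eq_maximalIdeal hm
  subst hmB
  exact hfib i hi

end Main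

end Groth.Agent.Lib.Helper5.FibReg
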