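import Mathlib
import Groth.Agent.Lib.Helper5.TorAmp.BaseChange
import Groth.Agent.Lib.Helper5.TorAmp.Char

/-!
# Openness and quasi-compactness for the tor amplitude of a pseudo-coherent complex (helper5)

`F` a bounded above complex of finite free modules over a ring `P`, exact in degrees `< a₀`.
For `a ≤ a₀`, the localization `F_Q` at a prime `Q` has tor amplitude in `[a, c]` iff the finitely
presented module `coker (F^{a-1} → F^a)` is free at `Q`.  The free locus is open and the spectrum
is quasi-compact, so local lower bounds for the tor amplitude give a global one.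
-/

set_option autoImplicit false
universe u
open CategoryTheory Limits Pretriangulated DerivedCategory MonoidalCategory TensorProduct
attribute [local instance] HasDerivedCategory.standard

namespace Groth.Agent.Lib.Helper5.FibReg
open Groth.Agent.Helper5.TorAmp Groth.Agent.Helper5.FlatAcyc Groth.Agent.Helper5.FlatBC

variable {R : Type u} [CommRing R]

/-- flat truncation: a bounded above complex of flats, exact below `a`, with flat cokernel in
degree `a`, has tor amplitude in `[a, b]`. -/
theorem hasTorAmplitudeIn_of_flat_opcycles {a b : ℤ} (P : DRing.Cx R)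
    (hflat : DRing.TermwiseFlat P) (hb : DRing.VanishesAbove P b)
    (hex : ∀ i : ℤ, i < a → P.ExactAt i) (hop : Module.Flat R (P.opcycles a)) :
    DRing.HasTorAmplitudeIn R a b (DRing.toD P) := by
  have hGE : P.IsGE a := by
    rw [CochainComplex.isGE_iff]
    intro i hi
    exact hex i hi
  have hq : QuasiIso (P.πTruncGE a) := inferInstance
  refine ⟨P.truncGE a, ?_, ?_, ⟨(asIso (Q.map (P.πTruncGE a))).symm⟩⟩
  · intro i hi
    rcases hi with hi | hi
    · exact (P.truncGE a).isZero_of_isStrictlyGE a i hi
    · rcases lt_trichotomy i a with h1 | h1 | h1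
      · exact (P.truncGE a).isZero_of_isStrictlyGE a i h1
      · subst h1
        exact (isZero_opcycles_of_isZero P i (hb i hi)).of_iso (P.truncGEXIsoOpcycles i)
      · exact (hb i hi).of_iso (P.truncGEXIso a i h1)
  · intro i
    rcases lt_trichotomy i a with h1 | h1 | h1
    · have : Subsingleton ((P.truncGE a).X i) :=
        ModuleCat.subsingleton_of_isZero ((P.truncGE a).isZero_of_isStrictlyGE a i h1)
      infer_instance
    · subst h1
      exact Module.Flat.of_linearEquiv (P.truncGEXIsoOpcycles i).toLinearEquiv
    · have := hflat i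
      exact Module.Flat.of_linearEquiv (P.truncGEXIso a i h1).toLinearEquiv

/-- the cokernels of a complex of finite free modules are finitely presented -/
theorem finitePresentation_opcycles (F : DRing.Cx R) (hff : DRing.TermwiseFiniteFree F) (a : ℤ) :
    Module.FinitePresentation R (F.opcycles a) := by
  obtain ⟨h1, h2⟩ := hff a
  obtain ⟨h3, h4⟩ := hff (a - 1)
  haveI : Module.FinitePresentation R (F.X a) := Module.finitePresentation_of_projective R _
  have hfp : Module.FinitePresentation R (F.X a ⧸ LinearMap.range (F.d (a - 1) a).hom) := by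
    refine Module.finitePresentation_of_surjective
      (LinearMap.range (F.d (a - 1) a).hom).mkQ (Submodule.mkQ_surjective _) ?_
    rw [Submodule.ker_mkQ, LinearMap.range_eq_map]
    exact Submodule.FG.map _ Module.Finite.fg_top
  exact Module.FinitePresentation.of_equiv
    (opcyclesIsoQuotient F (a - 1) a (by omega)).toLinearEquiv.symm

theorem termwiseFlat_of_finiteFree (F : DRing.Cx R) (hff : DRing.TermwiseFiniteFree F) :
    DRing.TermwiseFlat F := fun i => by
  obtain ⟨h1, h2⟩ := hff i
  infer_instance

section loc
variable (R' : Type u) [CommRing R'] [Algebra R R'] [Module.Flat R R']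

/-- cokernels commute with flat base change -/
noncomputable def opcyclesBCIso (F : DRing.Cx R) (a : ℤ) :
    ((Ec R').obj F).opcycles a ≅ (Ef R').obj (F.opcycles a) :=
  (F.sc a).mapOpcyclesIso (Ef R')

theorem exactAt_bc (F : DRing.Cx R) (i : ℤ) (h : F.ExactAt i) : ((Ec R').obj F).ExactAt i := by
  rw [HomologicalComplex.exactAt_iff_isZero_homology] at h ⊢
  exact ((Ef R').map_isZero h).of_iso (homIso R' F i)

theorem flat_Ef_iff (M : ModuleCat.{u} R) :
    Module.Flat R' ((Ef R').obj M) ↔ Module.Flat R' (R' ⊗[R] M) := by
  constructor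
  · intro h
    have h3 : Module.Flat R' (N' R' M) := h
    exact Module.Flat.of_linearEquiv (eqv R' M)
  · intro h
    have h3 : Module.Flat R' (N' R' M) := Module.Flat.of_linearEquiv (eqv R' M).symm
    exact h3

end loc

/-- the free locus of the cokernel is the locus where the tor amplitude is in `[a, c]` -/
theorem mem_freeLocus_iff_torAmp (F : DRing.Cx R) (hff : DRing.TermwiseFiniteFree F) (c : ℤ)
    (hc : DRing.VanishesAbove F c) (a : ℤ) (hex : ∀ i : ℤ, i < a → F.ExactAt i)
    (Q : PrimeSpectrum R) :
    Q ∈ Module.freeLocus R (F.opcycles a) ↔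
      DRing.HasTorAmplitudeIn (Localization.AtPrime Q.asIdeal) a c
        (DRing.toD ((Ec (Localization.AtPrime Q.asIdeal)).obj F)) := by
  let R' := Localization.AtPrime Q.asIdeal
  have hfp := finitePresentation_opcycles F hff a
  have hflat := termwiseFlat_of_finiteFree F hff
  have hflat' : DRing.TermwiseFlat ((Ec R').obj F) := Ec_flat R' F hflat
  have hc' : DRing.VanishesAbove ((Ec R').obj F) c := fun i hi => (Ef R').map_isZero (hc i hi)
  rw [Module.mem_freeLocus_iff_tensor Q R']
  constructor
  · intro hfree
    have h1 : Module.Flat R' (R' ⊗[R] (F.opcycles a)) := Module.Flat.of_free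
    have h2 : Module.Flat R' ((Ef R').obj (F.opcycles a)) := (flat_Ef_iff R' _).2 h1
    have h3 : Module.Flat R' (((Ec R').obj F).opcycles a) :=
      Module.Flat.of_linearEquiv (opcyclesBCIso R' F a).toLinearEquiv
    exact hasTorAmplitudeIn_of_flat_opcycles _ hflat' hc'
      (fun i hi => exactAt_bc R' F i (hex i hi)) h3
  · intro h
    have htv : TorVan a c ((Ec R').obj F) := (hasTorAmplitudeIn_iff _ hflat' c hc' a c).1 h
    have h3 : Module.Flat R' (((Ec R').obj F).opcycles a) :=
      flat_opcycles _ hflat' a (htv.exactAt _ (Or.inl (by omega)))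
        (fun I => htv _ _ (Or.inl (by omega)))
    have h2 : Module.Flat R' ((Ef R').obj (F.opcycles a)) :=
      Module.Flat.of_linearEquiv (opcyclesBCIso R' F a).toLinearEquiv.symm
    have h1 : Module.Flat R' (R' ⊗[R] (F.opcycles a)) := (flat_Ef_iff R' _).1 h2
    exact Module.free_of_flat_of_isLocalRing

/-- **Quasi-compactness**: local lower bounds for the tor amplitude of a pseudo-coherent complex,
bounded below, give a global lower bound. -/
theorem exists_torAmp_of_local (F : DRing.Cx R) (hff : DRing.TermwiseFiniteFree F) (c : ℤ)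
    (hc : DRing.VanishesAbove F c) (a₀ : ℤ) (hex : ∀ i : ℤ, i < a₀ → F.ExactAt i)
    (hloc : ∀ Q : PrimeSpectrum R, ∃ a : ℤ,
      DRing.HasTorAmplitudeIn (Localization.AtPrime Q.asIdeal) a c
        (DRing.toD ((Ec (Localization.AtPrime Q.asIdeal)).obj F))) :
    ∃ a : ℤ, DRing.HasTorAmplitudeIn R a c (DRing.toD F) := by
  let U : ℕ → Set (PrimeSpectrum R) := fun n => Module.freeLocus R (F.opcycles (a₀ - n))
  have hU : ∀ n, IsOpen (U n) := fun n => by
    have := finitePresentation_opcycles F hff (a₀ - n)
    exact Module.isOpen_freeLocus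
  have hiff : ∀ (n : ℕ) (Q : PrimeSpectrum R), Q ∈ U n ↔
      DRing.HasTorAmplitudeIn (Localization.AtPrime Q.asIdeal) (a₀ - n) c
        (DRing.toD ((Ec (Localization.AtPrime Q.asIdeal)).obj F)) := fun n Q =>
    mem_freeLocus_iff_torAmp F hff c hc (a₀ - n) (fun i hi => hex i (by omega)) Q
  have hmono : Monotone U := by
    intro n m hnm Q hQ
    rw [hiff] at hQ ⊢
    exact hasTorAmplitudeIn_mono hQ (by omega) le_rfl
  have hcov : (Set.univ : Set (PrimeSpectrum R)) ⊆ ⋃ n, U n := by
    intro Q _
    obtain ⟨a, ha⟩ := hloc Q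
    refine Set.mem_iUnion.2 ⟨(a₀ - a).toNat, ?_⟩
    rw [hiff]
    refine hasTorAmplitudeIn_mono ha ?_ le_rfl
    have := Int.self_le_toNat (a₀ - a)
    omega
  obtain ⟨n, hn⟩ := isCompact_univ.elim_directed_cover U hU hcov
    (Monotone.directed_le hmono)
  have hfp := finitePresentation_opcycles F hff (a₀ - n)
  have hproj : Module.Projective R (F.opcycles (a₀ - n)) :=
    Module.freeLocus_eq_univ_iff.1 (Set.eq_univ_of_univ_subset hn)
  have hfl : Module.Flat R (F.opcycles (a₀ - n)) := inferInstance
  exact ⟨a₀ - n, hasTorAmplitudeIn_of_flat_opcycles F (termwiseFlat_of_finiteFree F hff) hc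
    (fun i hi => hex i (by omega)) hfl⟩

end Groth.Agent.Lib.Helper5.FibReg
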