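import Mathlib
import Groth.Prelude.Def_DualSh
import Groth.Agent.Lib.Helper5.FibReg.FibUniform
import Groth.Agent.Lib.Helper5.FibReg.Open
import Groth.Agent.Lib.Helper5.QC.FpqcPC
import Groth.Agent.Lib.Helper5.DMod.DCRestrict

/-!
# Relative perfectness through boundedness below of the fibres (helper5)

`R → A` flat of finite presentation, `K ∈ D(A)` pseudo-coherent.  Then `K` is `R`-perfect iff `K`
is bounded below and all `K ⊗^L_R κ(p)` are bounded below.
-/

set_option autoImplicit false
universe u
open CategoryTheory CategoryTheory.Limits TensorProduct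

attribute [local instance] HasDerivedCategory.standard

namespace Groth.Agent.Lib.Helper5.FibReg

open DerivedCategory _root_.Helper5.Shriek Groth.Agent.Lib.Helper5.DTenLib Groth.Agent.Lib.Helper5.TBC
  Groth.Agent.Helper1.TorL Groth.Agent.Lib.Helper5.KProj Groth.Agent.Helper5.TorAmp
  Groth.Agent.Helper5.PCHom Groth.Agent.Helper5.PCBuild Groth.Agent.Helper5.FlatBC

/-- restriction of scalars is t-exact: cohomology vanishing -/
theorem subsingleton_HD_restrictD_iff {A B : Type u} [CommRing A] [CommRing B] (φ : A →+* B)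
    (L : Dual.D B) (n : ℤ) :
    Subsingleton (Dual.HD A ((DRing.restrictD φ).obj L) n) ↔ Subsingleton (Dual.HD B L n) := by
  have e := (_root_.Helper5.DMod.HDrestrictEquiv φ L n).toEquiv
  constructor
  · intro h
    exact (show Dual.HD B L n ≃ Dual.HD A ((DRing.restrictD φ).obj L) n from e.symm).subsingleton
  · intro h
    exact (show Dual.HD A ((DRing.restrictD φ).obj L) n ≃ Dual.HD B L n from e).subsingleton

theorem isLE_restrictD {A B : Type u} [CommRing A] [CommRing B] (φ : A →+* B)
    (L : Dual.D B) (c : ℤ) [L.IsLE c] : ((DRing.restrictD φ).obj L).IsLE c := by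
  rw [DerivedCategory.isLE_iff]
  intro i hi
  have h1 : IsZero ((homologyFunctor (ModuleCat.{u} B) i).obj L) := L.isZero_of_isLE c i hi
  have h2 : Subsingleton (Dual.HD B L i) := ModuleCat.subsingleton_of_isZero h1
  have h3 := (subsingleton_HD_restrictD_iff φ L i).2 h2
  exact @ModuleCat.isZero_of_subsingleton _ _ _ h3

theorem subsingleton_HD_of_isLE {A : Type u} [CommRing A] (K : Dual.D A) (c : ℤ) [K.IsLE c]
    (i : ℤ) (hi : c < i) : Subsingleton (Dual.HD A K i) :=
  ModuleCat.subsingleton_of_isZero (K.isZero_of_isLE c i hi)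

section Main

variable (R A : Type u) [CommRing R] [CommRing A] [Algebra R A]
  [Module.Flat R A] [Algebra.FinitePresentation R A]

/-- bounded below fibres and bounded below `K` give finite tor dimension over the base -/
theorem finiteTorDim_of_fibres
    [∀ p : PrimeSpectrum R, DRing.HasLTensor R (ModuleCat.of R p.asIdeal.ResidueField)]
    (K : Dual.D A) (hK : DRing.IsPseudoCoherent' A K)
    (h1 : ∃ a : ℤ, ∀ i : ℤ, i < a → Subsingleton (Dual.HD A K i))
    (h2 : ∀ p : PrimeSpectrum R, ∃ a : ℤ, ∀ i : ℤ, i < a →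
      Subsingleton (Dual.HD R ((DRing.LTensor R (ModuleCat.of R p.asIdeal.ResidueField)).obj
        ((DRing.restrictD (algebraMap R A)).obj K)) i)) :
    DRing.HasFiniteTorDimCx R ((DRing.restrictD (algebraMap R A)).obj K) := by
  obtain ⟨d, ψ, hψ⟩ := exists_presentation (R := R) (A := A)
  let P := MvPolynomial (Fin d) R
  letI algPA : Algebra P A := ψ.toRingHom.toAlgebra
  have hPC : PCHom (algebraMap P A) := Groth.Agent.Lib.Helper5.FlatLfp.pchom_of_flat_fp ψ hψ
  let N : Dual.D P := (DRing.restrictD (algebraMap P A)).obj K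
  have hN : DRing.IsPseudoCoherent' P N :=
    pc'_of_forall_pc _ (fun m => (pc_restrict_iff (algebraMap P A) hPC K m).1 (pc_of_pc' hK m))
  have hRA : (algebraMap P A).comp (algebraMap R P) = algebraMap R A := by
    refine RingHom.ext fun x => ?_
    show ψ (algebraMap R P x) = algebraMap R A x
    rw [ψ.commutes]
  have eN : (DRing.restrictD (algebraMap R P)).obj N ≅ (DRing.restrictD (algebraMap R A)).obj K :=
    ((restrictDCompIso (algebraMap R P) (algebraMap P A)).app K).symm ≪≫
      (restrictDEqIso hRA).app K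
  obtain ⟨F, c, hc, hff, ⟨eF⟩⟩ := id hN
  obtain ⟨a₀, ha₀⟩ := h1
  have hex : ∀ i : ℤ, i < a₀ → F.ExactAt i := by
    intro i hi
    rw [exactAt_iff_subsingleton_HD]
    have h3 : Subsingleton (Dual.HD P N i) :=
      (subsingleton_HD_restrictD_iff (algebraMap P A) K i).2 (ha₀ i hi)
    exact subsingleton_HD_of_iso eF.symm i h3
  haveI hFle : (DRing.toD F).IsLE c := by
    have : F.IsStrictlyLE c := isStrictlyLE_of_vanishesAbove hc
    infer_instance
  haveI hNle : N.IsLE c := TStructure.t.isLE_of_iso eF c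
  have hloc : ∀ Q : PrimeSpectrum P, ∃ a : ℤ,
      DRing.HasTorAmplitudeIn (Localization.AtPrime Q.asIdeal) a c
        (DRing.toD ((Ec (Localization.AtPrime Q.asIdeal)).obj F)) := by
    intro Q
    let p₀ : PrimeSpectrum R := PrimeSpectrum.comap (algebraMap R P) Q
    obtain ⟨a, ha⟩ := h2 p₀
    have hpQ : ∀ x : R, algebraMap R P x ∈ Q.asIdeal ↔ x ∈ p₀.asIdeal := fun x => Iff.rfl
    have h0' : ∀ j : ℤ, (j < a ∨ c < j) → Subsingleton (Dual.HD p₀.asIdeal.ResidueField
        ((DRing.LBaseChange (algebraMap R p₀.asIdeal.ResidueField)).obj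
          ((DRing.restrictD (algebraMap R P)).obj N)) j) := by
      intro j hj
      rcases hj with hj | hj
      · apply subsingleton_HD_lbc_of_ltensor R p₀.asIdeal.ResidueField _ j
        exact subsingleton_HD_of_iso
          ((DRing.LTensor R (ModuleCat.of R p₀.asIdeal.ResidueField)).mapIso eN.symm) j (ha j hj)
      · haveI := isLE_restrictD (algebraMap R P) N c
        haveI := isLE_LBaseChange (algebraMap R p₀.asIdeal.ResidueField)
          ((DRing.restrictD (algebraMap R P)).obj N) c
        exact subsingleton_HD_of_isLE _ c j hj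
    have t := torAmp_local_of_fibre R d N hN Q.asIdeal p₀.asIdeal hpQ a c h0'
    have hfl : (algebraMap P (Localization.AtPrime Q.asIdeal)).Flat :=
      RingHom.flat_algebraMap_iff.2 inferInstance
    exact ⟨a - d, hasTorAmplitudeIn_of_iso
      ((DRing.LBaseChange (algebraMap P (Localization.AtPrime Q.asIdeal))).mapIso eF.symm ≪≫
        Groth.Agent.Lib.Helper5.FpqcPC.lbcIsoOfFlat _ hfl F) t⟩
  obtain ⟨a, ha⟩ := exists_torAmp_of_local F hff c hc a₀ hex hloc
  have hNtor : DRing.HasTorAmplitudeIn P a c N := hasTorAmplitudeIn_of_iso eF ha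
  have hflRP : (algebraMap R P).Flat := RingHom.flat_algebraMap_iff.2 inferInstance
  have h8 := hasTorAmplitudeIn_restrictD_of_flat (algebraMap R P) hflRP N a c hNtor
  exact ⟨a, c, hasTorAmplitudeIn_of_iso eN h8⟩

/-- finite tor dimension over the base gives bounded below fibres -/
theorem fibres_of_finiteTorDim
    [∀ p : PrimeSpectrum R, DRing.HasLTensor R (ModuleCat.of R p.asIdeal.ResidueField)]
    (K : Dual.D A)
    (h : DRing.HasFiniteTorDimCx R ((DRing.restrictD (algebraMap R A)).obj K)) :
    (∃ a : ℤ, ∀ i : ℤ, i < a → Subsingleton (Dual.HD A K i)) ∧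
      ∀ p : PrimeSpectrum R, ∃ a : ℤ, ∀ i : ℤ, i < a →
        Subsingleton (Dual.HD R ((DRing.LTensor R (ModuleCat.of R p.asIdeal.ResidueField)).obj
          ((DRing.restrictD (algebraMap R A)).obj K)) i) := by
  obtain ⟨a, b, hab⟩ := h
  refine ⟨⟨a, fun i hi => ?_⟩, fun p => ⟨a, fun i hi => ?_⟩⟩
  · exact (subsingleton_HD_restrictD_iff (algebraMap R A) K i).1
      (bounded_of_hasTorAmplitudeIn hab i (Or.inl hi))
  · let X := (DRing.restrictD (algebraMap R A)).obj K
    let M := ModuleCat.of R p.asIdeal.ResidueField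
    haveI hle : X.IsLE b := isLE_of_hasTorAmplitudeIn hab
    obtain ⟨E, hEb, hproj, hEk, ⟨e⟩⟩ := exists_proj_rep X b
    haveI := hEk
    have hflat := termwiseFlat_of_projective E hproj
    have htv := (hasTorAmplitudeIn_iff E hflat b hEb a b).1 (hasTorAmplitudeIn_of_iso e.symm hab)
    have h1 := (exactAt_iff_subsingleton_HD _ i).1 (htv M i (Or.inl hi))
    exact subsingleton_HD_of_iso ((ltIso M E).symm ≪≫ (DRing.LTensor R M).mapIso e) i h1

end Main

end Groth.Agent.Lib.Helper5.FibReg
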