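import Mathlib
import Groth.Agent.Lib.Helper5.FibReg.RelPerfCrit

/-!
# Relative perfectness through boundedness below of the fibres, field valued points (helper5)

Variants of `finiteTorDim_of_fibres` where the fibres are computed through the derived base change
to the residue fields, or to arbitrary fields `κ'` with a ring map `R → κ'` of kernel `p`.
-/

set_option autoImplicit false
universe u
open CategoryTheory CategoryTheory.Limits TensorProduct

attribute [local instance] HasDerivedCategory.standard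

namespace Groth.Agent.Lib.Helper5.FibReg

open DerivedCategory _root_.Helper5.Shriek Groth.Agent.Lib.Helper5.DTenLib Groth.Agent.Lib.Helper5.TBC
  Groth.Agent.Helper1.TorL Groth.Agent.Lib.Helper5.KProj Groth.Agent.Helper5.TorAmp
  Groth.Agent.Helper5.PCHom Groth.Agent.Helper5.PCBuild Groth.Agent.Helper5.FlatBC

/-- descent of cohomology vanishing along a faithfully flat ring map -/
theorem subsingleton_HD_of_lbc_ff {κ κ' : Type u} [CommRing κ] [CommRing κ'] (ρ : κ →+* κ')
    (hρ : ρ.FaithfullyFlat) (Z : Dual.D κ) (i : ℤ)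
    (h : Subsingleton (Dual.HD κ' ((DRing.LBaseChange ρ).obj Z) i)) :
    Subsingleton (Dual.HD κ Z i) := by
  let Z₀ : DRing.Cx κ := Q.objPreimage Z
  let e : DRing.toD Z₀ ≅ Z := Q.objObjPreimageIso Z
  letI : Algebra κ κ' := ρ.toAlgebra
  haveI : Module.FaithfullyFlat κ κ' := hρ
  have h1 : Subsingleton (Dual.HD κ' (DRing.toD ((bcCx ρ).obj Z₀)) i) :=
    subsingleton_HD_of_iso ((DRing.LBaseChange ρ).mapIso e.symm ≪≫
      Groth.Agent.Lib.Helper5.FpqcPC.lbcIsoOfFlat ρ hρ.flat Z₀) i h
  have h2 : ((Ec κ').obj Z₀).ExactAt i := (exactAt_iff_subsingleton_HD _ i).2 h1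
  have h3 := exactAt_of_bc κ' Z₀ i h2
  exact subsingleton_HD_of_iso e i ((exactAt_iff_subsingleton_HD _ i).1 h3)

section Main

variable (R A : Type u) [CommRing R] [CommRing A] [Algebra R A]
  [Module.Flat R A] [Algebra.FinitePresentation R A]

/-- bounded below fibres (through the derived base change to the residue fields) and bounded below
`K` give finite tor dimension over the base -/
theorem finiteTorDim_of_fibres_lbc
    (K : Dual.D A) (hK : DRing.IsPseudoCoherent' A K)
    (h1 : ∃ a : ℤ, ∀ i : ℤ, i < a → Subsingleton (Dual.HD A K i))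
    (h2 : ∀ p : PrimeSpectrum R, ∃ a : ℤ, ∀ i : ℤ, i < a →
      Subsingleton (Dual.HD p.asIdeal.ResidueField
        ((DRing.LBaseChange (algebraMap R p.asIdeal.ResidueField)).obj
          ((DRing.restrictD (algebraMap R A)).obj K)) i)) :
    DRing.HasFiniteTorDimCx R ((DRing.restrictD (algebraMap R A)).obj K) := by
  obtain ⟨d, ψ, hψ⟩ := exists_presentation (R := R) (A := A)
  let P := MvPolynomial (Fin d) R
  letI algPA : Algebra P A := ψ.toRingHom.toAlgebra
  have hPC : PCHom (algebraMap P A) := Groth.Agent.Lib.Helper5.FlatLfp.pchom_of_flat_fp ψ hψ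
  let N : Dual.D P := (DRing.restrictD (algebraMap P A)).obj K
  have hN : DRing.IsPseudoCoherent' P N :=
    pc'_of_forall_pc _ (fun m => (pc_restrict_iff (algebraMap P A) hPC K m).1 (pc_of_pc' hK m))
  have hRA : (algebraMap P A).comp (algebraMap R P) = algebraMap R A := by
    refine RingHom.ext fun x => ?_
    show ψ (algebraMap R P x) = algebraMap R A x
    rw [ψ.commutes]
  have eN : (DRing.restrictD (algebraMap R P)).obj N ≅ (DRing.restrictD (algebraMap R A)).obj K :=
    ((restrictDCompIso (algebraMap R P) (algebraMap P A)).app K).symm ≪≫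
      (restrictDEqIso hRA).app K
  obtain ⟨F, c, hc, hff, ⟨eF⟩⟩ := id hN
  obtain ⟨a₀, ha₀⟩ := h1
  have hex : ∀ i : ℤ, i < a₀ → F.ExactAt i := by
    intro i hi
    rw [exactAt_iff_subsingleton_HD]
    have h3 : Subsingleton (Dual.HD P N i) :=
      (subsingleton_HD_restrictD_iff (algebraMap P A) K i).2 (ha₀ i hi)
    exact subsingleton_HD_of_iso eF.symm i h3
  haveI hFle : (DRing.toD F).IsLE c := by
    have : F.IsStrictlyLE c := isStrictlyLE_of_vanishesAbove hc
    infer_instance
  haveI hNle : N.IsLE c := TStructure.t.isLE_of_iso eF c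
  have hloc : ∀ Q : PrimeSpectrum P, ∃ a : ℤ,
      DRing.HasTorAmplitudeIn (Localization.AtPrime Q.asIdeal) a c
        (DRing.toD ((Ec (Localization.AtPrime Q.asIdeal)).obj F)) := by
    intro Q
    let p₀ : PrimeSpectrum R := PrimeSpectrum.comap (algebraMap R P) Q
    obtain ⟨a, ha⟩ := h2 p₀
    have hpQ : ∀ x : R, algebraMap R P x ∈ Q.asIdeal ↔ x ∈ p₀.asIdeal := fun x => Iff.rfl
    have h0' : ∀ j : ℤ, (j < a ∨ c < j) → Subsingleton (Dual.HD p₀.asIdeal.ResidueField
        ((DRing.LBaseChange (algebraMap R p₀.asIdeal.ResidueField)).obj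
          ((DRing.restrictD (algebraMap R P)).obj N)) j) := by
      intro j hj
      rcases hj with hj | hj
      · exact subsingleton_HD_of_iso
          ((DRing.LBaseChange (algebraMap R p₀.asIdeal.ResidueField)).mapIso eN.symm) j (ha j hj)
      · haveI := isLE_restrictD (algebraMap R P) N c
        haveI := isLE_LBaseChange (algebraMap R p₀.asIdeal.ResidueField)
          ((DRing.restrictD (algebraMap R P)).obj N) c
        exact subsingleton_HD_of_isLE _ c j hj
    have t := torAmp_local_of_fibre R d N hN Q.asIdeal p₀.asIdeal hpQ a c h0'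
    have hfl : (algebraMap P (Localization.AtPrime Q.asIdeal)).Flat :=
      RingHom.flat_algebraMap_iff.2 inferInstance
    exact ⟨a - d, hasTorAmplitudeIn_of_iso
      ((DRing.LBaseChange (algebraMap P (Localization.AtPrime Q.asIdeal))).mapIso eF.symm ≪≫
        Groth.Agent.Lib.Helper5.FpqcPC.lbcIsoOfFlat _ hfl F) t⟩
  obtain ⟨a, ha⟩ := exists_torAmp_of_local F hff c hc a₀ hex hloc
  have hNtor : DRing.HasTorAmplitudeIn P a c N := hasTorAmplitudeIn_of_iso eF ha
  have hflRP : (algebraMap R P).Flat := RingHom.flat_algebraMap_iff.2 inferInstance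
  have h8 := hasTorAmplitudeIn_restrictD_of_flat (algebraMap R P) hflRP N a c hNtor
  exact ⟨a, c, hasTorAmplitudeIn_of_iso eN h8⟩

/-- the same with arbitrary field valued points of the base -/
theorem finiteTorDim_of_fibres_field
    (K : Dual.D A) (hK : DRing.IsPseudoCoherent' A K)
    (h1 : ∃ a : ℤ, ∀ i : ℤ, i < a → Subsingleton (Dual.HD A K i))
    (h2 : ∀ p : PrimeSpectrum R, ∃ (κ' : Type u) (_ : CommRing κ') (φ : R →+* κ'),
      IsField κ' ∧ RingHom.ker φ = p.asIdeal ∧ ∃ a : ℤ, ∀ i : ℤ, i < a →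
        Subsingleton (Dual.HD κ' ((DRing.LBaseChange φ).obj
          ((DRing.restrictD (algebraMap R A)).obj K)) i)) :
    DRing.HasFiniteTorDimCx R ((DRing.restrictD (algebraMap R A)).obj K) := by
  refine finiteTorDim_of_fibres_lbc R A K hK h1 (fun p => ?_)
  obtain ⟨κ', _, φ, hF, hker, a, ha⟩ := h2 p
  refine ⟨a, fun i hi => ?_⟩
  let Y := (DRing.restrictD (algebraMap R A)).obj K
  have hf₁ : p.asIdeal ≤ RingHom.ker φ := hker.ge
  have hf₂ : p.asIdeal.primeCompl ≤ (IsUnit.submonoid κ').comap φ := by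
    intro x hx
    show IsUnit (φ x)
    have hne : φ x ≠ 0 := fun h0 => hx (hker ▸ (RingHom.mem_ker.2 h0))
    obtain ⟨y, hy⟩ := hF.mul_inv_cancel hne
    exact IsUnit.of_mul_eq_one y hy
  let ρ : p.asIdeal.ResidueField →+* κ' := Ideal.ResidueField.lift p.asIdeal φ hf₁ hf₂
  have hρ : ρ.comp (algebraMap R p.asIdeal.ResidueField) = φ :=
    RingHom.ext fun r => Ideal.ResidueField.lift_algebraMap p.asIdeal φ hf₁ hf₂ r
  have hρff : ρ.FaithfullyFlat := by
    letI : Algebra p.asIdeal.ResidueField κ' := ρ.toAlgebra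
    haveI : Nontrivial κ' := hF.nontrivial
    show Module.FaithfullyFlat p.asIdeal.ResidueField κ'
    infer_instance
  have e1 : (DRing.LBaseChange φ).obj Y ≅ (DRing.LBaseChange ρ).obj
      ((DRing.LBaseChange (algebraMap R p.asIdeal.ResidueField)).obj Y) :=
    ((lbcEqIso hρ).app Y).symm ≪≫
      (lbcCompIso (algebraMap R p.asIdeal.ResidueField) ρ).app Y
  exact subsingleton_HD_of_lbc_ff ρ hρff _ i (subsingleton_HD_of_iso e1 i (ha i hi))

end Main

end Groth.Agent.Lib.Helper5.FibReg
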