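import Mathlib
import Groth.Agent.Lib.Helper5.FibReg.Chart

/-!
# Relative perfectness from the closed fibre over an ideal in the Jacobson radical (helper5)
-/

set_option autoImplicit false
set_option linter.unusedSectionVars false
set_option linter.unusedVariables false
set_option linter.style.haveILetI false
universe u
open CategoryTheory CategoryTheory.Limits Opposite TopologicalSpace AlgebraicGeometry

attribute [local instance] HasDerivedCategory.standard

namespace Groth.Agent.Lib.Helper5.FibReg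

open Groth.Agent.Lib.Helper5.RelTor Groth.Agent.Lib.Helper5.PCTri
  Groth.Agent.Helper5.TorAmp Groth.Agent.Lib.Helper5.DerSchTor

section Spec

variable (R : Type u) [CommRing R] (I : Ideal R) {X : Scheme.{u}}
  (f : X ⟶ Spec (CommRingCat.of R))

/-- every point of a scheme proper over `Spec R` specializes to a point over `V(I)` when `I` is
contained in the Jacobson radical -/
theorem exists_specializes_of_jacobson (hI : I ≤ Ideal.jacobson ⊥) [IsProper f] (x' : X) :
    ∃ x₀ : ↑(pullback f (Spec.map (CommRingCat.ofHom (Ideal.Quotient.mk I)))),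
      x' ⤳ (pullback.fst f (Spec.map (CommRingCat.ofHom (Ideal.Quotient.mk I)))).base x₀ := by
  let j := Spec.map (CommRingCat.ofHom (Ideal.Quotient.mk I))
  let Z : Set X := closure {x'}
  have hZ : IsClosed Z := isClosed_closure
  have hfZ : IsClosed (f.base '' Z) := f.isClosedMap _ hZ
  obtain ⟨J, hJ⟩ := (PrimeSpectrum.isClosed_iff_zeroLocus_ideal _).1 hfZ
  have hne : J ≠ ⊤ := by
    intro h
    rw [h, PrimeSpectrum.zeroLocus_empty_iff_eq_top.2 rfl] at hJ
    have : f.base x' ∈ f.base '' Z := ⟨x', subset_closure rfl, rfl⟩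
    rw [hJ] at this
    exact this
  obtain ⟨m, hm, hJm⟩ := Ideal.exists_le_maximal J hne
  let pm : PrimeSpectrum R := ⟨m, hm.isPrime⟩
  have hpm : pm ∈ f.base '' Z := by
    rw [hJ]
    exact hJm
  obtain ⟨z, hz, hfz⟩ := hpm
  have hIm : I ≤ m := hI.trans (sInf_le ⟨bot_le, hm⟩)
  have hrange : pm ∈ Set.range j.base := by
    have h1 : Set.range (PrimeSpectrum.comap (Ideal.Quotient.mk I)) =
        PrimeSpectrum.zeroLocus (RingHom.ker (Ideal.Quotient.mk I)) :=
      _root_.range_comap_of_surjective _ _ Ideal.Quotient.mk_surjective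
    have h2 : pm ∈ PrimeSpectrum.zeroLocus (RingHom.ker (Ideal.Quotient.mk I) : Set R) := by
      rw [Ideal.mk_ker]
      exact hIm
    rw [← h1] at h2
    exact h2
  obtain ⟨s₀, hs₀⟩ := hrange
  obtain ⟨x₀, hx₀, -⟩ := Scheme.Pullback.exists_preimage_pullback (f := f) (g := j) z s₀
    (hfz.trans hs₀.symm)
  refine ⟨x₀, ?_⟩
  rw [specializes_iff_mem_closure]
  show (pullback.fst f j).base x₀ ∈ Z
  rw [show (pullback.fst f j).base x₀ = z from hx₀]
  exact hz

end Spec

section Global

variable (R : Type u) [CommRing R] (I : Ideal R) {X : Scheme.{u}}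
  (f : X ⟶ Spec (CommRingCat.of R))

/-- **relative perfectness from the closed fibre** over an ideal in the Jacobson radical -/
theorem locFiniteTorAmplitudeD_of_closed_fibre (hI : I ≤ Ideal.jacobson ⊥) [IsProper f] [Flat f]
    [LocallyOfFinitePresentation f]
    [DCoh.HasLpull (pullback.fst f (Spec.map (CommRingCat.ofHom (Ideal.Quotient.mk I))))]
    (E : DCoh.D X) (hpc : ∀ m : ℤ, DCoh.IsPseudoCoherentD m E)
    (hpc₀ : ∀ m : ℤ, DCoh.IsPseudoCoherentD m
      ((DCoh.Lpull (pullback.fst f (Spec.map (CommRingCat.ofHom (Ideal.Quotient.mk I))))).obj E))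
    (htor₀ : DCoh.LocHasFiniteRelTorDim
      (pullback.snd f (Spec.map (CommRingCat.ofHom (Ideal.Quotient.mk I))))
      ((DCoh.Lpull (pullback.fst f (Spec.map (CommRingCat.ofHom (Ideal.Quotient.mk I))))).obj E)) :
    DerSch.LocFiniteTorAmplitudeD f E := by
  let j := Spec.map (CommRingCat.ofHom (Ideal.Quotient.mk I))
  haveI : IsClosedImmersion j :=
    IsClosedImmersion.spec_of_surjective _ Ideal.Quotient.mk_surjective
  have sq : IsPullback (pullback.fst f j) (pullback.snd f j) f j := IsPullback.of_hasPullback f j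
  haveI : CompactSpace X := QuasiCompact.compactSpace_of_compactSpace f
  have hch : ∀ x : X, ∃ U : X.Opens, IsAffineOpen U ∧ x ∈ U := by
    intro x
    obtain ⟨U, hU, hxU, -⟩ := TopologicalSpace.Opens.isBasis_iff_nbhd.mp X.isBasis_affineOpens
      (show x ∈ (⊤ : X.Opens) from trivial)
    exact ⟨U, hU, hxU⟩
  choose U hU hxU using hch
  have hab : ∀ x : X, ∃ a' b' : ℤ, ∀ (F : CochainComplex X.Modules ℤ),
      Nonempty (DCoh.toD X F ≅ E) → ∀ (x₀ : ↑(pullback f j)),
      (pullback.fst f j).base x₀ ∈ U x → ∀ x' : X, x' ⤳ (pullback.fst f j).base x₀ →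
        DerSch.HasTorAmplitudeAt f a' b' F x' :=
    fun x => exists_torAmp_chart f (pullback.snd f j) (pullback.fst f j) j sq E hpc hpc₀ htor₀
      (isAffineOpen_top _) (hU x) le_top
  choose a b hab using hab
  obtain ⟨t, ht⟩ := isCompact_univ.elim_finite_subcover (fun x => (U x : Set X))
    (fun x => (U x).isOpen) (fun x _ => Set.mem_iUnion.2 ⟨x, hxU x⟩)
  let N : ℕ := t.sup (fun y => max (a y).natAbs (b y).natAbs)
  intro F hF x
  refine ⟨⊤, -(N : ℤ), N, trivial, fun x' _ => ?_⟩
  obtain ⟨x₀, hx₀⟩ := exists_specializes_of_jacobson R I f hI x'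
  have hmem := ht (Set.mem_univ ((pullback.fst f j).base x₀))
  obtain ⟨y, hyt, hy⟩ := Set.mem_iUnion₂.1 hmem
  have h1 := hab y F hF x₀ hy x' hx₀
  have hN : max (a y).natAbs (b y).natAbs ≤ N :=
    Finset.le_sup (f := fun y => max (a y).natAbs (b y).natAbs) hyt
  exact hasTorAmplitudeIn_mono h1 (by omega) (by omega)

end Global

end Groth.Agent.Lib.Helper5.FibReg
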